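import Groth.Agent.EtModAcyc.Amp
import Mathlib

/-!
A left exact functor of finite cohomological dimension on unbounded complexes of acyclic objects.
-/

set_option autoImplicit false
set_option backward.isDefEq.respectTransparency false
set_option backward.isDefEq.respectTransparency.types false
set_option linter.style.haveILetI false
set_option linter.unusedSectionVars false
set_option maxHeartbeats 1000000

universe w v w' v'

open CategoryTheory Category CategoryTheory.Limits

attribute [local instance] HasDerivedCategory.standard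

noncomputable section

namespace Groth.Agent.EtUnbBC

open EtModAcyc (isZero_cycles_step)

variable {A : Type w} [Category.{v} A] [Abelian A] [EnoughInjectives A]
  {B : Type w'} [Category.{v'} B] [Abelian B] (F : A ⥤ B) [F.Additive] [PreservesFiniteLimits F]
  (N : ℕ) (hN : ∀ (M : A) (p : ℕ), N ≤ p → IsZero ((F.rightDerived p).obj M))

section

variable (I : CochainComplex A ℤ) (b : ℤ)
  (hI : ∀ (m : ℤ) (p : ℕ), 0 < p → IsZero ((F.rightDerived p).obj (I.X m)))
  (hb : ∀ m, b < m → IsZero (I.homology m))

include hI hN hb in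
theorem isZero_cycles_high : ∀ (k p : ℕ), 0 < p → N ≤ p + k → IsZero ((F.rightDerived p).obj (I.cycles (b + k))) := by
  intro k
  induction k with
  | zero => exact fun p _ hpN => hN _ p (by omega)
  | succ k ih =>
    intro p hp hpk
    haveI : (F.rightDerived p).Additive := inferInstance
    refine isZero_cycles_step F I hI _ p hp ?_ ((F.rightDerived p).map_isZero (hb _ (by omega)))
    rw [show (b + ((k + 1 : ℕ) : ℤ)) - 1 = b + k by omega]
    exact ih (p + 1) (by omega) (by omega)

include hI hN hb in
theorem exactAt_map (hN0 : 0 < N) (i : ℤ) (hi : b + N ≤ i) :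
    ((F.mapHomologicalComplex (ComplexShape.up ℤ)).obj I).ExactAt i := by
  obtain ⟨n, rfl⟩ : ∃ n, i = n + 1 := ⟨i - 1, by omega⟩
  have h₁ : IsZero ((F.rightDerived 1).obj (I.cycles n)) := by
    have := isZero_cycles_high F N hN I b hI hb (n - b).toNat 1 one_pos (by omega)
    rwa [show b + ((n - b).toNat : ℤ) = n by omega] at this
  have hse : (ShortComplex.mk (I.iCycles n) (I.toCycles n (n + 1)) (by
      rw [← cancel_mono (I.iCycles (n + 1)), assoc, I.toCycles_i, I.iCycles_d, zero_comp])).ShortExact := by
    refine { exact := ?_, epi_g := ?_ }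
    · refine ShortComplex.exact_of_f_is_kernel _ (KernelFork.IsLimit.ofι' _ _ fun k hk =>
        ⟨I.liftCycles k (n + 1) (by simp) ?_, I.liftCycles_i _ _ _ _⟩)
      rw [← I.toCycles_i n (n + 1), ← assoc]
      exact (congrArg (· ≫ I.iCycles (n + 1)) hk).trans zero_comp
    · exact (ShortComplex.exact_of_g_is_cokernel (ShortComplex.mk (I.toCycles n (n + 1))
        (I.homologyπ (n + 1)) (I.toCycles_comp_homologyπ n (n + 1)))
        (I.homologyIsCokernel n (n + 1) (by simp))).epi_f ((hb (n + 1) (by omega)).eq_of_tgt _ _)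
  haveI : Epi ((F.rightDerived 0).map (I.toCycles n (n + 1))) :=
    (RDerLib.exact₃ F (RDerLib.res hse) 0 1 rfl).epi_f (h₁.eq_of_tgt _ _)
  haveI : Epi (F.map (I.toCycles n (n + 1))) := by
    have : Epi (F.map (I.toCycles n (n + 1)) ≫ F.toRightDerivedZero.app (I.cycles (n + 1))) := by
      rw [F.toRightDerivedZero.naturality]; infer_instance
    rw [show F.map (I.toCycles n (n + 1)) = (F.map (I.toCycles n (n + 1)) ≫
        F.toRightDerivedZero.app (I.cycles (n + 1))) ≫
          inv (F.toRightDerivedZero.app (I.cycles (n + 1))) by simp]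
    infer_instance
  rw [HomologicalComplex.exactAt_iff' _ n (n + 1) (n + 1 + 1) (by simp) (by simp),
    ShortComplex.exact_iff_exact_up_to_refinements]
  intro W x hx
  change W ⟶ F.obj (I.X (n + 1)) at x
  change x ≫ F.map (I.d (n + 1) (n + 1 + 1)) = 0 at hx
  obtain ⟨z, hz⟩ := KernelFork.IsLimit.lift'
    (KernelFork.mapIsLimit _ (I.cyclesIsKernel (n + 1) (n + 1 + 1) (by simp)) F) x hx
  obtain ⟨W', π, hπ, y, hy⟩ := surjective_up_to_refinements_of_epi (F.map (I.toCycles n (n + 1))) z
  refine ⟨W', π, hπ, y, ?_⟩
  change π ≫ x = y ≫ F.map (I.d n (n + 1))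
  rw [← hz, reassoc_of% hy, ← I.toCycles_i n (n + 1), F.map_comp]
  rfl

end

omit [EnoughInjectives A] in
theorem isZero_homology_cone {K L : CochainComplex A ℤ} (φ : K ⟶ L) (j : ℤ)
    (h₁ : Epi (HomologicalComplex.homologyMap φ j)) (h₂ : Mono (HomologicalComplex.homologyMap φ (j + 1))) :
    IsZero ((CochainComplex.mappingCone φ).homology j) := by
  let hT := DerivedCategory.mappingCone_triangle_distinguished φ
  refine (CochainComplex.homologyMap_exact₃_of_distTriang _ hT j (j + 1) rfl).isZero_of_both_zeros ?_ ?_
  · exact zero_of_epi_comp (HomologicalComplex.homologyMap φ j)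
      (CochainComplex.homologyMap_comp_eq_zero_of_distTriang _ hT j)
  · exact zero_of_comp_mono (HomologicalComplex.homologyMap φ (j + 1))
      (CochainComplex.homologyδOfTriangle_homologyMap _ hT j (j + 1) rfl)

omit [EnoughInjectives A] in
theorem isIso_homologyMap_of_cone {K L : CochainComplex A ℤ} (φ : K ⟶ L) (j : ℤ)
    (h₁ : IsZero ((CochainComplex.mappingCone φ).homology (j - 1)))
    (h₂ : IsZero ((CochainComplex.mappingCone φ).homology j)) :
    IsIso (HomologicalComplex.homologyMap φ j) := by
  let hT := DerivedCategory.mappingCone_triangle_distinguished φ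
  haveI : Mono (HomologicalComplex.homologyMap φ j) :=
    (CochainComplex.homologyMap_exact₁_of_distTriang _ hT (j - 1) j (by omega)).mono_g (h₁.eq_of_src _ _)
  haveI : Epi (HomologicalComplex.homologyMap φ j) :=
    (CochainComplex.homologyMap_exact₂_of_distTriang _ hT j).epi_f (h₂.eq_of_tgt _ _)
  exact isIso_of_mono_of_epi _

include hN in
/-- **a functor of finite cohomological dimension only sees the homology above a bound** -/
theorem isIso_homologyMap_map (hN0 : 0 < N) {K L : CochainComplex A ℤ} (φ : K ⟶ L)
    (hK : ∀ (m : ℤ) (p : ℕ), 0 < p → IsZero ((F.rightDerived p).obj (K.X m)))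
    (hL : ∀ (m : ℤ) (p : ℕ), 0 < p → IsZero ((F.rightDerived p).obj (L.X m)))
    (m : ℤ) (hφ : ∀ j, m ≤ j → IsIso (HomologicalComplex.homologyMap φ j))
    (i : ℤ) (hi : m + N ≤ i) :
    IsIso (HomologicalComplex.homologyMap ((F.mapHomologicalComplex (ComplexShape.up ℤ)).map φ) i) := by
  have hC : ∀ j, m - 1 < j → IsZero ((CochainComplex.mappingCone φ).homology j) := fun j hj => by
    haveI := hφ j (by omega)
    haveI := hφ (j + 1) (by omega)
    exact isZero_homology_cone φ j inferInstance inferInstance
  have hX : ∀ (n : ℤ) (p : ℕ), 0 < p → IsZero ((F.rightDerived p).obj ((CochainComplex.mappingCone φ).X n)) := by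
    intro n p hp
    haveI : (F.rightDerived p).Additive := inferInstance
    rw [IsZero.iff_id_eq_zero, ← (F.rightDerived p).map_id,
      ← CochainComplex.mappingCone.id_X φ n (n + 1) rfl, Functor.map_add, Functor.map_comp,
      Functor.map_comp, (hK (n + 1) p hp).eq_of_tgt ((F.rightDerived p).map _) 0,
      (hL n p hp).eq_of_tgt ((F.rightDerived p).map _) 0, zero_comp, zero_comp, add_zero]
  have hz : ∀ j, m - 1 + N ≤ j →
      IsZero ((CochainComplex.mappingCone ((F.mapHomologicalComplex (ComplexShape.up ℤ)).map φ)).homology j) :=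
    fun j hj => ((HomologicalComplex.exactAt_iff_isZero_homology _ _).1
      (exactAt_map F N hN (CochainComplex.mappingCone φ) (m - 1) hX hC hN0 j hj)).of_iso
        ((HomologicalComplex.homologyFunctor B (ComplexShape.up ℤ) j).mapIso
          (CochainComplex.mappingCone.mapHomologicalComplexIso φ F).symm)
  exact isIso_homologyMap_of_cone _ i (hz _ (by omega)) (hz _ (by omega))

end Groth.Agent.EtUnbBC
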