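import Groth.Agent.EtUnbBC.Rep
import Groth.Agent.EtUnbBC.Cd
import Groth.Agent.EtModShriek.UpperShriek
import Groth.Agent.EtModShriek.BaseChange
import Groth.Agent.RPlusComp.Adjunction
import Mathlib

/-!
Proper base change in the unbounded derived category of sheaves of modules.
-/

set_option autoImplicit false
set_option backward.isDefEq.respectTransparency false
set_option backward.isDefEq.respectTransparency.types false
set_option linter.style.haveILetI false
set_option linter.unusedSectionVars false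
set_option linter.overlappingInstances false
set_option maxHeartbeats 2000000

universe u w₁ v₁ w₂ v₂

open CategoryTheory CategoryTheory.Limits AlgebraicGeometry Opposite

attribute [local instance] HasDerivedCategory.standard

noncomputable section

namespace Groth.Agent.EtUnbBC

open Groth.Agent.EtModAcyc (F₀)
open DerivedCategory (Qh)

theorem isIso_homologyMap_of_natIso {A : Type w₁} [Category.{v₁} A] [Abelian A] {B : Type w₂} [Category.{v₂} B]
    [Abelian B] {P Q : A ⥤ B} [P.Additive] [Q.Additive] (e : P ≅ Q) {K L : CochainComplex A ℤ} (φ : K ⟶ L) (i : ℤ)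
    (h : IsIso (HomologicalComplex.homologyMap ((Q.mapHomologicalComplex (ComplexShape.up ℤ)).map φ) i)) :
    IsIso (HomologicalComplex.homologyMap ((P.mapHomologicalComplex (ComplexShape.up ℤ)).map φ) i) := by
  let E := NatIso.mapHomologicalComplex e (ComplexShape.up ℤ)
  have h' : (P.mapHomologicalComplex (ComplexShape.up ℤ)).map φ = E.hom.app K ≫
      (Q.mapHomologicalComplex (ComplexShape.up ℤ)).map φ ≫ E.inv.app L :=
    (NatIso.naturality_2 E φ).symm
  rw [h', HomologicalComplex.homologyMap_comp, HomologicalComplex.homologyMap_comp]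
  haveI := h
  infer_instance

/-- the cone of a map detects isomorphisms in cohomology -/
theorem quasiIso_of_cone {A : Type w₁} [Category.{v₁} A] [Abelian A] {K L : CochainComplex A ℤ} (φ : K ⟶ L)
    (h : ∀ j, IsZero ((CochainComplex.mappingCone φ).homology j)) : QuasiIso φ :=
  ⟨fun j => (quasiIsoAt_iff_isIso_homologyMap φ j).2 (isIso_homologyMap_of_cone φ j (h _) (h _))⟩

variable (Λ : Type (u + 1)) [CommRing Λ]

/-- being zero is local -/
theorem isZero_of_local {X : Scheme.{u}} (M : EtModW.Mod Λ X)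
    (h : ∀ x : X, ∃ W : X.Opens, x ∈ W ∧ IsZero ((EtModW.pull Λ W.ι).obj M)) : IsZero M := by
  refine EtModShriek.isZero_of_forget Λ (EtPBC.isZero_of_isZero_stalks _ fun Ω _ _ ξ => ?_)
  obtain ⟨W, hx, hW⟩ := h (ξ default)
  have hr : Set.range ξ ⊆ Set.range W.ι := by
    rintro _ ⟨y, rfl⟩
    rw [Subsingleton.elim (α := Spec (CommRingCat.of Ω)) y default, Scheme.Opens.range_ι]
    exact hx
  rw [← IsOpenImmersion.lift_fac W.ι ξ hr]
  haveI := ModCstAcyc.isIso_pullCmp Λ (EtCoh.bc W.ι) (J := X.smallEtaleTopology) (K := W.toScheme.smallEtaleTopology) M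
  refine IsZero.of_iso ?_ ((EtStalk.stalkPullIso W.ι _).app _)
  haveI := (EtModAcyc.forget_exact Λ W.toScheme).2.2.1
  exact Functor.map_isZero (EtCoh.stalk _) (((F₀ Λ W.toScheme).map_isZero hW).of_iso (asIso (EtModAcyc.τ Λ W.ι M)))

/-- inverse image to an open preserves injectives -/
theorem injective_pull {X : Scheme.{u}} (W : X.Opens) (I : EtModW.Mod Λ X) [Injective I] :
    Injective ((EtModW.pull Λ W.ι).obj I) := by
  haveI := EtMV.jcont_etale W.ι
  haveI := EtModAcyc.extZeroMod_preservesFiniteLimits Λ W.ι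
  haveI : (EtDl.extZeroMod Λ W.ι).PreservesMonomorphisms := inferInstance
  exact Injective.injective_of_adjoint
    ((EtDl.extZeroModAdj Λ W.ι).ofNatIsoRight (EtModShriek.restrPullModIso (Λ := Λ) W.ι)) I

/-- restriction commutes with direct image -/
def restrIso {X S : Scheme.{u}} (f : X ⟶ S) (V : S.Opens) :
    EtModW.push Λ f ⋙ EtModW.pull Λ V.ι ≅ EtModW.pull Λ (f ⁻¹ᵁ V).ι ⋙ EtModW.push Λ (f ∣_ V) :=
  haveI := EtMV.jcont_etale V.ι
  haveI := EtMV.jcont_etale (f ⁻¹ᵁ V).ι
  Functor.isoWhiskerLeft _ (EtModShriek.restrPullModIso (Λ := Λ) V.ι).symm ≪≫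
    (EtModShriek.restrPushModIso Λ V.ι f (f ⁻¹ᵁ V).ι (f ∣_ V) (isPullback_morphismRestrict f V).flip).symm ≪≫
    Functor.isoWhiskerRight (EtModShriek.restrPullModIso (Λ := Λ) (f ⁻¹ᵁ V).ι) _

variable (n : ℕ) (hn : 0 < n) (hΛ : (n : Λ) = 0)

include hn hΛ in
/-- cohomological dimension of proper direct image over an affine open -/
theorem exists_bound {X S : Scheme.{u}} (f : X ⟶ S) [IsProper f] (V : S.Opens) (hV : IsAffineOpen V) :
    ∃ N : ℕ, 0 < N ∧ ∀ (M : EtModW.Mod Λ (f ⁻¹ᵁ V).toScheme) (p : ℕ), N ≤ p →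
      IsZero (((EtModW.push Λ (f ∣_ V)).rightDerived p).obj M) := by
  haveI : IsAffine V.toScheme := hV
  haveI : IsProper (f ∣_ V) := MorphismProperty.of_isPullback (P := @IsProper)
    (isPullback_morphismRestrict f V).flip inferInstance
  haveI : CompactSpace ↥(f ⁻¹ᵁ V).toScheme := QuasiCompact.compactSpace_of_compactSpace (f ∣_ V)
  obtain ⟨d, hd⟩ := EtRshriek.exists_fibre_bound (f ∣_ V)
  let P := (f ⁻¹ᵁ V).toScheme
  let ec : EtShriek.compEtale (𝟙 P) ≅ 𝟭 P.Etale := MorphismProperty.Over.mapId (P := EtCoh.etaleMP) (Q := ⊤) P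
  let r : EtShriek.extZero (𝟙 P) ≅ 𝟭 (EtCoh.Ab P) :=
    (EtShriek.extZeroAdj (𝟙 P)).leftAdjointUniq (Adjunction.id.ofNatIsoRight
      (Functor.sheafPushforwardContinuousId' ec AddCommGrpCat.{u + 1} P.smallEtaleTopology).symm)
  exact ⟨2 * d + 1, by omega, fun M q hq =>
    EtModShriek.isZero_rightDerived_pushMod_above Λ (f ∣_ V) (2 * d) M (fun q hq =>
      (EtPBC.isZero_Rpush_extZero (𝟙 P) (f ∣_ V) d (by rw [Category.id_comp]; exact hd) _
        (EtModAcyc.isTorsion_forget Λ n hn hΛ M) q hq).of_iso ((EtCoh.Rpush (f ∣_ V) q).mapIso (r.app _).symm))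
      q hq⟩

/-- restricted proper direct image only sees the cohomology above a bound -/
theorem isIso_homologyMap_push_pull {X S : Scheme.{u}} (f : X ⟶ S) (V : S.Opens) (N : ℕ) (hN0 : 0 < N)
    (hN : ∀ (M : EtModW.Mod Λ (f ⁻¹ᵁ V).toScheme) (p : ℕ), N ≤ p →
      IsZero (((EtModW.push Λ (f ∣_ V)).rightDerived p).obj M))
    {K L : CochainComplex (EtModW.Mod Λ X) ℤ} (φ : K ⟶ L) (hK : ∀ m, Injective (K.X m))
    (hL : ∀ m, Injective (L.X m)) (m : ℤ) (hφ : ∀ j, m ≤ j → IsIso (HomologicalComplex.homologyMap φ j))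
    (i : ℤ) (hi : m + N ≤ i) :
    IsIso (HomologicalComplex.homologyMap
      (((EtModW.push Λ f ⋙ EtModW.pull Λ V.ι).mapHomologicalComplex (ComplexShape.up ℤ)).map φ) i) := by
  haveI := EtModShriek.pushMod_preservesFiniteLimits Λ (f ∣_ V)
  haveI := RPlusComp.pullMod_preservesFiniteLimits Λ (f ⁻¹ᵁ V).ι
  haveI := EtBC.pullMod_preservesFiniteColimits Λ (f ⁻¹ᵁ V).ι
  refine isIso_homologyMap_of_natIso (restrIso Λ f V) φ i ?_
  have hac : ∀ (T : CochainComplex (EtModW.Mod Λ X) ℤ), (∀ m, Injective (T.X m)) → ∀ (m : ℤ) (p : ℕ), 0 < p →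
      IsZero (((EtModW.push Λ (f ∣_ V)).rightDerived p).obj
        ((((EtModW.pull Λ (f ⁻¹ᵁ V).ι).mapHomologicalComplex (ComplexShape.up ℤ)).obj T).X m)) := fun T hT m p hp => by
    haveI := hT m
    haveI := injective_pull Λ (f ⁻¹ᵁ V) (T.X m)
    exact AcycDef.acyc_injective _ ((EtModW.pull Λ (f ⁻¹ᵁ V).ι).obj (T.X m)) p hp
  exact isIso_homologyMap_map (EtModW.push Λ (f ∣_ V)) N hN hN0
    (((EtModW.pull Λ (f ⁻¹ᵁ V).ι).mapHomologicalComplex (ComplexShape.up ℤ)).map φ) (hac K hK) (hac L hL) m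
    (fun j hj => by
      haveI := hφ j hj
      haveI : QuasiIsoAt φ j := (quasiIsoAt_iff_isIso_homologyMap φ j).2 inferInstance
      exact (quasiIsoAt_iff_isIso_homologyMap _ j).1 inferInstance) i hi

variable {X S X' S' : Scheme.{u}} (f : X ⟶ S) (g : S' ⟶ S) (f' : X' ⟶ S') (g' : X' ⟶ X)

include hn hΛ in
/-- **unbounded proper base change on complexes of injectives** -/
theorem quasiIso_bcG (hc : IsPullback g' f' f g) [IsProper f] [PreservesFiniteLimits (EtModW.pull Λ g)]
    [PreservesFiniteLimits (EtModW.pull Λ g')]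
    {I : CochainComplex (EtModW.Mod Λ X) ℤ} (hI : ∀ m, Injective (I.X m))
    {J : CochainComplex (EtModW.Mod Λ X') ℤ} (hJ : ∀ m, Injective (J.X m))
    (s : ((EtModW.pull Λ g').mapHomologicalComplex (ComplexShape.up ℤ)).obj I ⟶ J) [QuasiIso s] :
    QuasiIso (DerPlusBC.bcG (EtSix.pullPushModAdj Λ g) (EtSix.pushToPushPullMod Λ f g f' g' hc.w) s) := by
  haveI : IsProper f' := MorphismProperty.of_isPullback (P := @IsProper) hc inferInstance
  let adjg := EtSix.pullPushModAdj Λ g
  let θ := EtSix.pushToPushPullMod Λ f g f' g' hc.w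
  let b := DerPlusBC.bcG adjg θ s
  refine quasiIso_of_cone b fun j => isZero_of_local Λ _ fun x => ?_
  obtain ⟨V, hV, hxV, -⟩ := exists_isAffineOpen_mem_and_subset (show g x ∈ (⊤ : S.Opens) from trivial)
  obtain ⟨W, hW, hxW, hWV⟩ := exists_isAffineOpen_mem_and_subset (show x ∈ g ⁻¹ᵁ V from hxV)
  have hWV' : W ≤ g ⁻¹ᵁ V := hWV
  refine ⟨W, hxW, ?_⟩
  obtain ⟨N₁, hN₁0, hN₁⟩ := exists_bound Λ n hn hΛ f V hV
  obtain ⟨N₂, hN₂0, hN₂⟩ := exists_bound Λ n hn hΛ f' W hW
  haveI := RPlusComp.pullMod_preservesFiniteLimits Λ W.ι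
  haveI := EtBC.pullMod_preservesFiniteColimits Λ W.ι
  let Rw := EtModW.pull Λ W.ι
  -- a truncation of `I` by injectives
  let m : ℤ := j - N₁ - N₂
  let T : CochainComplex.Plus (EtModW.Mod Λ X) := ⟨I.truncGE m, m, inferInstance⟩
  haveI : T.obj.IsStrictlyGE m := inferInstanceAs ((I.truncGE m).IsStrictlyGE m)
  obtain ⟨L₀, -, ι₀, hι₀⟩ := CochainComplex.Plus.exists_quasiIso_injective T m
  haveI : QuasiIso ι₀.hom := hι₀
  let φ : I ⟶ ((InjectiveObject.ι (EtModW.Mod Λ X)).mapCochainComplexPlus.obj L₀).obj := I.πTruncGE m ≫ ι₀.hom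
  have hφ : ∀ k, m ≤ k → IsIso (HomologicalComplex.homologyMap φ k) := fun k hk => by
    haveI := (quasiIsoAt_iff_isIso_homologyMap (I.πTruncGE m) k).1 (CochainComplex.quasiIsoAt_πTruncGE I m k hk)
    haveI := (quasiIsoAt_iff_isIso_homologyMap ι₀.hom k).1 (hι₀.quasiIsoAt k)
    rw [HomologicalComplex.homologyMap_comp]
    infer_instance
  obtain ⟨a, ha⟩ := ((InjectiveObject.ι (EtModW.Mod Λ X)).mapCochainComplexPlus.obj L₀).property
  haveI := ha
  let T' : CochainComplex.Plus (EtModW.Mod Λ X') := ⟨((EtModW.pull Λ g').mapHomologicalComplex (ComplexShape.up ℤ)).obj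
    ((InjectiveObject.ι (EtModW.Mod Λ X)).mapCochainComplexPlus.obj L₀).obj, a, inferInstance⟩
  haveI : T'.obj.IsStrictlyGE a := inferInstanceAs (CochainComplex.IsStrictlyGE
    (((EtModW.pull Λ g').mapHomologicalComplex (ComplexShape.up ℤ)).obj
      ((InjectiveObject.ι (EtModW.Mod Λ X)).mapCochainComplexPlus.obj L₀).obj) a)
  obtain ⟨J₀, -, s₀, hs₀⟩ := CochainComplex.Plus.exists_quasiIso_injective T' a
  let I₁ := ((InjectiveObject.ι (EtModW.Mod Λ X)).mapCochainComplexPlus.obj L₀).obj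
  let J₁ := ((InjectiveObject.ι (EtModW.Mod Λ X')).mapCochainComplexPlus.obj J₀).obj
  let s₁ : ((EtModW.pull Λ g').mapHomologicalComplex (ComplexShape.up ℤ)).obj I₁ ⟶ J₁ := s₀.hom
  haveI : QuasiIso s₁ := hs₀
  haveI : CochainComplex.IsKInjective J₁ := DerPlus.isKInjective_inj J₀
  -- the induced map `χ : J ⟶ J₁`
  let q := HomotopyCategory.quotient (EtModW.Mod Λ X') (ComplexShape.up ℤ)
  let pφ := ((EtModW.pull Λ g').mapHomologicalComplex (ComplexShape.up ℤ)).map φ
  haveI : IsIso (Qh.map (q.map s)) := by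
    rw [DerivedCategory.isIso_Qh_map_iff, HomotopyCategory.quotient_map_mem_quasiIso_iff]
    assumption
  obtain ⟨χ', hχ'⟩ := (CochainComplex.IsKInjective.Qh_map_bijective (q.obj J) J₁).2
    (inv (Qh.map (q.map s)) ≫ Qh.map (q.map (pφ ≫ s₁)))
  obtain ⟨χ, rfl⟩ := q.map_surjective χ'
  have hh : q.map (s ≫ χ) = q.map (pφ ≫ s₁) := by
    refine (CochainComplex.IsKInjective.Qh_map_bijective (q.obj _) J₁).1 ?_
    rw [Functor.map_comp q s χ, Functor.map_comp, hχ', IsIso.hom_inv_id_assoc]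
  let ho : Homotopy (pφ ≫ s₁) (s ≫ χ) := HomotopyCategory.homotopyOfEq _ _ hh.symm
  have hχ : ∀ k, m ≤ k → IsIso (HomologicalComplex.homologyMap χ k) := fun k hk => by
    haveI := hφ k hk
    haveI : QuasiIsoAt φ k := (quasiIsoAt_iff_isIso_homologyMap φ k).2 inferInstance
    haveI : IsIso (HomologicalComplex.homologyMap pφ k) := (quasiIsoAt_iff_isIso_homologyMap pφ k).1 inferInstance
    haveI := (quasiIsoAt_iff_isIso_homologyMap s₁ k).1 (hs₀.quasiIsoAt k)
    haveI := (quasiIsoAt_iff_isIso_homologyMap s k).1 (‹QuasiIso s›.quasiIsoAt k)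
    have e := ho.homologyMap_eq k
    rw [HomologicalComplex.homologyMap_comp, HomologicalComplex.homologyMap_comp] at e
    haveI : IsIso (HomologicalComplex.homologyMap s k ≫ HomologicalComplex.homologyMap χ k) := by
      rw [← e]
      infer_instance
    exact IsIso.of_isIso_comp_left (HomologicalComplex.homologyMap s k) _
  -- base change for the truncation
  let b₁ := DerPlusBC.bcG adjg θ s₁
  obtain ⟨adjP⟩ := RPlusComp.nonempty_pullPlus_adj Λ g
  haveI hb₁ : QuasiIso b₁ := (DerPlusBC.isIso_iff adjg θ (L₀ := L₀) (J₀ := J₀) s₁ adjP).1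
    (EtModAcyc.isIso_bcMapMod Λ f g f' g' hc adjP _ fun i => EtModAcyc.isTorsion_forget Λ n hn hΛ _)
  let A := ((EtModW.pull Λ g).mapHomologicalComplex (ComplexShape.up ℤ)).map
    (((EtModW.push Λ f).mapHomologicalComplex (ComplexShape.up ℤ)).map φ)
  let B := ((EtModW.push Λ f').mapHomologicalComplex (ComplexShape.up ℤ)).map χ
  let b₀ := DerPlusBC.bcG adjg θ (𝟙 (((EtModW.pull Λ g').mapHomologicalComplex (ComplexShape.up ℤ)).obj I))
  let P' := (EtModW.push Λ f').mapHomologicalComplex (ComplexShape.up ℤ)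
  have hb : ∀ {J' : CochainComplex (EtModW.Mod Λ X') ℤ}
      (t : ((EtModW.pull Λ g').mapHomologicalComplex (ComplexShape.up ℤ)).obj I ⟶ J'),
      DerPlusBC.bcG adjg θ t = b₀ ≫ P'.map t := fun t => by
    refine HomologicalComplex.hom_ext _ _ fun k => ?_
    simp [b₀, P', DerPlusBC.bcG]
    rw [← Functor.map_comp]
    exact congrArg (fun z => _ ≫ (EtModW.push Λ f').map z) (Category.id_comp _).symm
  have e1 : A ≫ b₁ = b₀ ≫ P'.map (pφ ≫ s₁) := by
    rw [← hb]
    refine HomologicalComplex.hom_ext _ _ fun k => ?_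
    simp only [A, b₁, pφ, DerPlusBC.bcG, HomologicalComplex.comp_f, Functor.mapHomologicalComplex_map_f]
    have hnat := (DerPlusBC.bc0 adjg θ).naturality (φ.f k)
    simp only [Functor.comp_map] at hnat
    rw [reassoc_of% hnat, ← Functor.map_comp]
  have e2 : b ≫ B = b₀ ≫ P'.map (s ≫ χ) := by
    rw [show b = b₀ ≫ P'.map s from hb s, Category.assoc, P'.map_comp]
  let hbB : Homotopy (A ≫ b₁) (b ≫ B) :=
    (Homotopy.ofEq e1).trans ((((EtModW.push Λ f').mapHomotopy ho).compLeft b₀).trans (Homotopy.ofEq e2.symm))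
  let RW := Rw.mapHomologicalComplex (ComplexShape.up ℤ)
  -- restricted to `W`, the base change map is an isomorphism in high degrees
  have hiso : ∀ i, j ≤ i → IsIso (HomologicalComplex.homologyMap (RW.map b) i) := fun i hi => by
    haveI hA : IsIso (HomologicalComplex.homologyMap (RW.map A) i) := by
      let gW := g.resLE V W hWV'
      haveI := RPlusComp.pullMod_preservesFiniteLimits Λ gW
      haveI := EtBC.pullMod_preservesFiniteColimits Λ gW
      let e : (EtModW.push Λ f ⋙ EtModW.pull Λ g) ⋙ Rw ≅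
          (EtModW.push Λ f ⋙ EtModW.pull Λ V.ι) ⋙ EtModW.pull Λ gW :=
        Functor.associator _ _ _ ≪≫ Functor.isoWhiskerLeft _
          ((EtSix.pullModComp Λ W.ι g).symm ≪≫ EtSix.pullModCongr Λ (Scheme.Hom.resLE_comp_ι g hWV').symm ≪≫
            EtSix.pullModComp Λ gW V.ι) ≪≫ (Functor.associator _ _ _).symm
      refine isIso_homologyMap_of_natIso e φ i ?_
      haveI := isIso_homologyMap_push_pull Λ f V N₁ hN₁0 hN₁ φ hI (fun k => (L₀.obj.X k).property) m hφ i (by omega)
      let c := ((EtModW.push Λ f ⋙ EtModW.pull Λ V.ι).mapHomologicalComplex (ComplexShape.up ℤ)).map φ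
      haveI : QuasiIsoAt c i := (quasiIsoAt_iff_isIso_homologyMap c i).2 inferInstance
      exact (quasiIsoAt_iff_isIso_homologyMap (((EtModW.pull Λ gW).mapHomologicalComplex _).map c) i).1 inferInstance
    haveI hB : IsIso (HomologicalComplex.homologyMap (RW.map B) i) :=
      isIso_homologyMap_push_pull Λ f' W N₂ hN₂0 hN₂ χ hJ (fun k => (J₀.obj.X k).property) m hχ i (by omega)
    haveI : QuasiIsoAt b₁ i := hb₁.quasiIsoAt i
    haveI := (quasiIsoAt_iff_isIso_homologyMap (RW.map b₁) i).1 inferInstance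
    have e := (Rw.mapHomotopy hbB).homologyMap_eq i
    rw [RW.map_comp, RW.map_comp, HomologicalComplex.homologyMap_comp, HomologicalComplex.homologyMap_comp] at e
    haveI : IsIso (HomologicalComplex.homologyMap (RW.map b) i ≫ HomologicalComplex.homologyMap (RW.map B) i) := by
      rw [← e]
      infer_instance
    exact IsIso.of_isIso_comp_right _ (HomologicalComplex.homologyMap (RW.map B) i)
  haveI := hiso j le_rfl
  haveI := hiso (j + 1) (by omega)
  have h0 : IsZero (((Rw.mapHomologicalComplex (ComplexShape.up ℤ)).obj (CochainComplex.mappingCone b)).homology j) :=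
    (isZero_homology_cone (RW.map b) j inferInstance inferInstance).of_iso
      ((HomologicalComplex.homologyFunctor _ (ComplexShape.up ℤ) j).mapIso
        (CochainComplex.mappingCone.mapHomologicalComplexIso b Rw))
  exact h0.of_iso (((CochainComplex.mappingCone b).sc j).mapHomologyIso Rw).symm

include hn hΛ in
/-- **unbounded proper base change** -/
theorem isIso_bcMapModD (hc : IsPullback g' f' f g) [IsProper f] [PreservesFiniteLimits (EtModW.pull Λ g)]
    [PreservesFiniteLimits (EtModW.pull Λ g')] [EtBC.HasRpushMod Λ f] [EtBC.HasRpushMod Λ f'] [EtBC.HasRpushMod Λ g]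
    (adj : EtBC.pullModD Λ g ⊣ EtBC.RpushModD Λ g) (K : EtModD.D Λ X) :
    IsIso (EtBC.bcMapModD Λ f g f' g' hc.w adj K) := by
  let K₀ := DerivedCategory.Q.objPreimage K
  obtain ⟨I, i, hI, hi, -, hIinj⟩ := KInj.exists_kInjective K₀
  haveI := hI
  haveI := hi
  obtain ⟨J, s, hJ, hs, -, hJinj⟩ :=
    KInj.exists_kInjective (((EtModW.pull Λ g').mapHomologicalComplex (ComplexShape.up ℤ)).obj I)
  haveI := hJ
  haveI := hs
  let e : K ≅ Qh.obj ((qh Λ X).obj I) :=
    (DerivedCategory.Q.objObjPreimageIso K).symm ≪≫ asIso (DerivedCategory.Q.map i) ≪≫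
      ((DerivedCategory.quotientCompQhIso (EtModW.Mod Λ X)).app I).symm
  exact (congr_obj Λ f g f' g' hc.w adj e).2
    ((isIso_iff Λ f g f' g' hc.w s adj).2 (quasiIso_bcG Λ n hn hΛ f g f' g' hc hIinj hJinj s))

end Groth.Agent.EtUnbBC
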