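import Groth.Agent.EtUnbBC.AbSect
import Groth.Agent.EtUnbBC.Cd
import Groth.Agent.BrownUnb.Basic
import Groth.Agent.EtRshriek.Coprod
import Groth.Prelude.Def_EtBCD
import Mathlib

/-!
Direct images of abelian sheaves commute with direct sums on unbounded derived categories when the sources have
finite cohomological dimension.
-/

set_option autoImplicit false
set_option backward.isDefEq.respectTransparency false
set_option backward.isDefEq.respectTransparency.types false
set_option linter.style.haveILetI false
set_option linter.unusedSectionVars false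
set_option linter.overlappingInstances false
set_option linter.auxLemma false
set_option maxHeartbeats 1000000

universe u

open CategoryTheory CategoryTheory.Limits AlgebraicGeometry Opposite

attribute [local instance] HasDerivedCategory.standard

noncomputable section

namespace Groth.Agent.EtUnbBC

variable {X S : Scheme.{u}} (f : X ⟶ S) [QuasiCompact f] [QuasiSeparated f]
  (hX : ∀ U : X.Etale, CompactSpace ↥(U.left) → QuasiSeparatedSpace ↥(U.left) → ∃ d : ℕ,
    ∀ (F : EtCoh.Ab U.left) (q : ℕ), d < q → Subsingleton (EtCoh.H U.left F q))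

include hX in
/-- direct image respects quasi-isomorphisms out of direct sums of complexes of injectives -/
theorem quasiIso_push_coprod_ab (T : Type (u + 1)) (I : T → CochainComplex (EtCoh.Ab X) ℤ)
    (hI : ∀ t k, Injective ((I t).X k)) (K : CochainComplex (EtCoh.Ab X) ℤ) (hK : ∀ k, Injective (K.X k))
    (s : ∐ I ⟶ K) (hs : QuasiIso s) :
    QuasiIso (((EtCoh.push f).mapHomologicalComplex (ComplexShape.up ℤ)).map s) := by
  haveI := hs
  haveI : (EtCoh.push f).IsRightAdjoint := (EtCoh.pullPushAdj f).isRightAdjoint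
  rw [DerPlus.quasiIso_iff_acyclic_mappingCone]
  intro i
  refine HomologicalComplex.ExactAt.of_iso ?_ (CochainComplex.mappingCone.mapHomologicalComplexIso s (EtCoh.push f))
  let C := CochainComplex.mappingCone s
  let D := ((EtCoh.push f).mapHomologicalComplex (ComplexShape.up ℤ)).obj C
  obtain ⟨n, rfl⟩ : ∃ n, i = n + 1 := ⟨i - 1, by omega⟩
  show D.ExactAt (n + 1)
  have hC := (DerPlus.quasiIso_iff_acyclic_mappingCone s).1 hs
  rw [HomologicalComplex.exactAt_iff' _ n (n + 1) (n + 1 + 1) (by simp) (by simp), ShortComplex.exact_iff_epi_toCycles]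
  let S₀ := D.sc' n (n + 1) (n + 1 + 1)
  refine (Sheaf.isLocallySurjective_iff_epi' AddCommGrpCat.{u + 1} S₀.toCycles).1
    ⟨fun {V} z => (EtFLC.mem_iff _).2 fun x => ?_⟩
  obtain ⟨V', g, hV', v, hv⟩ := EtColimH.exists_affine_nhd V x
  haveI := hV'
  let W := (EtCoh.bc f).obj V'
  have hW : EtColimH.Qcqs W := EtColimH.qcqs_bc f V'
  obtain ⟨d, hd⟩ := hX W hW.1 hW.2
  have hterms : ∀ (m : ℤ) (p : ℕ), 0 < p → IsZero (((secF W).rightDerived p).obj (C.X m)) := by
    intro m p hp
    haveI : ((secF W).rightDerived p).Additive := inferInstance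
    let e : (∐ fun t => (I t).X (m + 1)) ≅ (∐ I).X (m + 1) := (coproductIsCoproduct _).coconePointUniqueUpToIso
      (isColimitCofanMkObjOfIsColimit (HomologicalComplex.eval (EtCoh.Ab X) (ComplexShape.up ℤ) (m + 1)) _ _
        (coproductIsCoproduct I))
    haveI : ∀ t, Injective ((I t).X (m + 1)) := fun t => hI t (m + 1)
    have h1 : IsZero (((secF W).rightDerived p).obj ((∐ I).X (m + 1))) :=
      (isZero_rightDerived_secF_of_cac W hW _ (EtRshriek.cac_coprod_injective T fun t => (I t).X (m + 1)) p hp).of_iso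
        (((secF W).rightDerived p).mapIso e.symm)
    have h2 : IsZero (((secF W).rightDerived p).obj (K.X m)) := by
      haveI := hK m
      obtain ⟨r, rfl⟩ := Nat.exists_eq_succ_of_ne_zero hp.ne'
      exact (secF W).isZero_rightDerived_obj_injective_succ r (K.X m)
    rw [IsZero.iff_id_eq_zero, ← ((secF W).rightDerived p).map_id,
      ← CochainComplex.mappingCone.id_X s m (m + 1) rfl, Functor.map_add, Functor.map_comp,
      Functor.map_comp, h1.eq_of_tgt (((secF W).rightDerived p).map _) 0,
      h2.eq_of_tgt (((secF W).rightDerived p).map _) 0, zero_comp, zero_comp, add_zero]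
  have hex := exactAt_map (secF W) (d + 1) (fun G p hp => isZero_rightDerived_secF_of_cd W d hd G p hp)
    C (n + 1 - (d + 1 : ℕ)) hterms
    (fun m _ => (HomologicalComplex.exactAt_iff_isZero_homology _ _).1 (hC m)) d.succ_pos (n + 1) (by omega)
  rw [HomologicalComplex.exactAt_iff' _ n (n + 1) (n + 1 + 1) (by simp) (by simp), ShortComplex.ab_exact_iff] at hex
  let Φ := secF V'
  let z' : EtCoh.sect S₀.cycles V' := S₀.cycles.obj.map g.op z
  have hzero : (Φ.map S₀.g) ((Φ.map S₀.iCycles) z') = 0 := by
    rw [← ConcreteCategory.comp_apply, ← Φ.map_comp, S₀.iCycles_g, Φ.map_zero]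
    rfl
  obtain ⟨y, hy⟩ := hex ((Φ.map S₀.iCycles) z') hzero
  refine ⟨V', g, v, ⟨y, ?_⟩, hv⟩
  refine (AddCommGrpCat.mono_iff_injective (Φ.map S₀.iCycles)).1 inferInstance ?_
  refine ((ConcreteCategory.comp_apply (Φ.map S₀.toCycles) (Φ.map S₀.iCycles) y).symm.trans ?_).trans hy
  rw [← Φ.map_comp, S₀.toCycles_i]
  rfl

include hX in
/-- **`Rf_*` commutes with direct sums** -/
theorem preservesCoproducts_RpushEt [DCoh.HasRpushEt X f] (T : Type (u + 1)) :
    PreservesColimitsOfShape (Discrete T) (DCoh.RpushEt X f) :=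
  BrownUnb.preservesCoproducts_RF (EtCoh.push f) (fun T => EtRshriek.preservesCoproducts_push f T)
    (fun T I hI K _ hK s hs => quasiIso_push_coprod_ab f hX T I hI K hK s hs) (DCoh.RpushEt X f)
    (EtBCBridge.uR f) T

end Groth.Agent.EtUnbBC
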