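import Groth.Agent.EtMV.Etale
import Groth.Agent.EtColimH.Main
import Groth.Agent.EtColimH.PTorsion
import Groth.Agent.EtRshriek.CoprodSheaf
import Mathlib

/-!
Derived functors of sections over an etale object vanish where cohomology does.
-/

set_option autoImplicit false
set_option backward.isDefEq.respectTransparency false
set_option backward.isDefEq.respectTransparency.types false
set_option linter.style.haveILetI false
set_option linter.unusedSectionVars false
set_option linter.auxLemma false
set_option maxHeartbeats 1000000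

universe u

open CategoryTheory CategoryTheory.Limits AlgebraicGeometry Opposite CategoryTheory.Abelian

noncomputable section

namespace Groth.Agent.EtUnbBC

attribute [local instance 100000] EtCoh.H._proof_1 Groth.Agent.EtMV.hext
attribute [local instance 200000] Groth.Agent.EtMV.hextAb

variable {X : Scheme.{u}}

/-- sections over an etale object -/
abbrev secF (W : X.Etale) : EtCoh.Ab X ⥤ AddCommGrpCat.{u + 1} :=
  sheafToPresheaf _ _ ⋙ (evaluation _ AddCommGrpCat.{u + 1}).obj (op W)

instance secF_preservesFiniteLimits (W : X.Etale) : PreservesFiniteLimits (secF W) :=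
  comp_preservesFiniteLimits _ _

theorem subsingleton_of_eq_zero {M : Type*} [AddCommGroup M] (h : ∀ x : M, x = 0) : Subsingleton M :=
  ⟨fun a b => (h a).trans (h b).symm⟩

/-- `R^{r+1} Γ(W, G) = 0` when `Ext^{r+1}(P_W, G) = 0` -/
theorem isZero_rightDerived_secF (W : X.Etale) : ∀ (r : ℕ) (G : EtCoh.Ab X),
    Subsingleton (Ext ((EtMV.P X).obj W) G (r + 1)) → IsZero (((secF W).rightDerived (r + 1)).obj G) := by
  intro r
  induction r with
  | zero =>
    intro G hG
    have hS := SiteCoh.embedSeq_shortExact G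
    refine EtColimH.isZero_succ (secF W) hS 0 (Functor.isZero_rightDerived_obj_injective_succ _ _ _)
      (EtColimH.epi_rightDerived_zero _ _ ((AddCommGrpCat.epi_iff_surjective _).2 fun t => ?_))
    obtain ⟨x, hx⟩ := Ext.covariant_sequence_exact₃ ((EtMV.P X).obj W) hS (n₀ := 0)
      (Ext.mk₀ (EtMV.σ.symm t)) (zero_add 1) (hG.elim _ _)
    obtain ⟨φ, rfl⟩ := (Ext.mk₀_bijective _ _).2 x
    rw [Ext.mk₀_comp_mk₀] at hx
    refine ⟨EtMV.σ φ, ?_⟩
    refine (EtMV.σ_comp φ (SiteCoh.embedSeq G).g).symm.trans ?_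
    rw [(Ext.mk₀_bijective _ _).1 hx, Equiv.apply_symm_apply]
  | succ r ih =>
    intro G hG
    have hS := SiteCoh.embedSeq_shortExact G
    haveI : Subsingleton (Ext ((EtMV.P X).obj W) (SiteCoh.embedSeq G).X₂ (r + 1)) := inferInstance
    have hQ : Subsingleton (Ext ((EtMV.P X).obj W) (SiteCoh.embedSeq G).X₃ (r + 1)) := by
      refine subsingleton_of_eq_zero fun x => ?_
      obtain ⟨y, rfl⟩ := Ext.covariant_sequence_exact₃ ((EtMV.P X).obj W) hS x (rfl : r + 1 + 1 = r + 2) (hG.elim _ _)
      rw [Subsingleton.elim y 0, Ext.zero_comp]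
    exact EtColimH.isZero_succ (secF W) hS (r + 1) (Functor.isZero_rightDerived_obj_injective_succ _ _ _)
      ⟨fun a b _ => (ih _ hQ).eq_of_src a b⟩

/-- vanishing above the cohomological dimension of `W` -/
theorem isZero_rightDerived_secF_of_cd (W : X.Etale) (d : ℕ)
    (hd : ∀ (F : EtCoh.Ab W.left) (q : ℕ), d < q → Subsingleton (EtCoh.H W.left F q))
    (G : EtCoh.Ab X) (p : ℕ) (hp : d + 1 ≤ p) : IsZero (((secF W).rightDerived p).obj G) := by
  obtain ⟨r, rfl⟩ := Nat.exists_eq_succ_of_ne_zero (show p ≠ 0 by omega)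
  exact isZero_rightDerived_secF W r G ((EtMV.subsingleton_H_iff W G (r + 1)).1 (hd _ _ (by omega)))

/-- Čech acyclic sheaves are acyclic for sections -/
theorem isZero_rightDerived_secF_of_cac (W : X.Etale) (hW : EtColimH.Qcqs W) (G : EtCoh.Ab X)
    (hG : EtColimH.CAc G) (p : ℕ) (hp : 0 < p) : IsZero (((secF W).rightDerived p).obj G) := by
  obtain ⟨r, rfl⟩ := Nat.exists_eq_succ_of_ne_zero hp.ne'
  exact isZero_rightDerived_secF W r G
    (EtColimH.subsingleton_ext_of_cac hW ((EtMV.P X).obj W) (fun G => EtMV.σ) (fun φ ψ => EtMV.σ_comp φ ψ) r G hG)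

end Groth.Agent.EtUnbBC
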