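import Groth.Agent.EtUnbBC.Main
import Groth.Agent.BrownUnb.Basic
import Mathlib

/-!
Direct images of sheaves of modules by proper morphisms on unbounded derived categories:
compatibility with direct sums and existence of the right adjoint.
-/

set_option autoImplicit false
set_option backward.isDefEq.respectTransparency false
set_option backward.isDefEq.respectTransparency.types false
set_option linter.style.haveILetI false
set_option linter.unusedSectionVars false
set_option linter.overlappingInstances false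
set_option maxHeartbeats 2000000

universe u

open CategoryTheory CategoryTheory.Limits AlgebraicGeometry Opposite

attribute [local instance] HasDerivedCategory.standard

noncomputable section

namespace Groth.Agent.EtUnbBC

variable (Λ : Type (u + 1)) [CommRing Λ]

/-- direct sums of injectives restrict to acyclic sheaves -/
theorem acyc_pull_coprod {X S : Scheme.{u}} (f : X ⟶ S) [IsProper f] (V : S.Opens) (T : Type (u + 1))
    (I : T → CochainComplex (EtModW.Mod Λ X) ℤ) (hI : ∀ t k, Injective ((I t).X k)) (k : ℤ) :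
    AcycDef.Acyc (EtModW.push Λ (f ∣_ V)) ((EtModW.pull Λ (f ⁻¹ᵁ V).ι).obj ((∐ I).X k)) := by
  haveI : IsProper (f ∣_ V) := MorphismProperty.of_isPullback (P := @IsProper)
    (isPullback_morphismRestrict f V).flip inferInstance
  let R := EtModW.pull Λ (f ⁻¹ᵁ V).ι
  haveI : R.IsLeftAdjoint := (EtSix.pullPushModAdj Λ (f ⁻¹ᵁ V).ι).isLeftAdjoint
  let e : (∐ fun t => (I t).X k) ≅ (∐ I).X k := (coproductIsCoproduct _).coconePointUniqueUpToIso
    (isColimitCofanMkObjOfIsColimit (HomologicalComplex.eval (EtModW.Mod Λ X) (ComplexShape.up ℤ) k) _ _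
      (coproductIsCoproduct I))
  intro p hp
  exact (EtModShriek.acyc_coprod_injective Λ (f ∣_ V) T (fun t => R.obj ((I t).X k))
    (fun t => haveI := hI t k; injective_pull Λ (f ⁻¹ᵁ V) ((I t).X k)) p hp).of_iso
      (((EtModW.push Λ (f ∣_ V)).rightDerived p).mapIso
        (R.mapIso e.symm ≪≫ PreservesCoproduct.iso R fun t => (I t).X k))

variable (n : ℕ) (hn : 0 < n) (hΛ : (n : Λ) = 0)

include hn hΛ in
/-- proper direct image respects quasi-isomorphisms out of direct sums of complexes of injectives -/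
theorem quasiIso_push_coprod {X S : Scheme.{u}} (f : X ⟶ S) [IsProper f] (T : Type (u + 1))
    (I : T → CochainComplex (EtModW.Mod Λ X) ℤ) (hI : ∀ t k, Injective ((I t).X k))
    (K : CochainComplex (EtModW.Mod Λ X) ℤ) (hK : ∀ k, Injective (K.X k)) (s : ∐ I ⟶ K) (hs : QuasiIso s) :
    QuasiIso (((EtModW.push Λ f).mapHomologicalComplex (ComplexShape.up ℤ)).map s) := by
  refine quasiIso_of_cone _ fun j => isZero_of_local Λ _ fun x => ?_
  obtain ⟨V, hV, hxV, -⟩ := exists_isAffineOpen_mem_and_subset (show x ∈ (⊤ : S.Opens) from trivial)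
  refine ⟨V, hxV, ?_⟩
  obtain ⟨N, hN0, hN⟩ := exists_bound Λ n hn hΛ f V hV
  haveI := EtModShriek.pushMod_preservesFiniteLimits Λ (f ∣_ V)
  haveI := RPlusComp.pullMod_preservesFiniteLimits Λ (f ⁻¹ᵁ V).ι
  haveI := EtBC.pullMod_preservesFiniteColimits Λ (f ⁻¹ᵁ V).ι
  haveI := RPlusComp.pullMod_preservesFiniteLimits Λ V.ι
  haveI := EtBC.pullMod_preservesFiniteColimits Λ V.ι
  let R := EtModW.pull Λ (f ⁻¹ᵁ V).ι
  let Rv := EtModW.pull Λ V.ι
  let Fs := ((EtModW.push Λ f).mapHomologicalComplex (ComplexShape.up ℤ)).map s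
  let RV := Rv.mapHomologicalComplex (ComplexShape.up ℤ)
  have hiso : ∀ i, IsIso (HomologicalComplex.homologyMap (RV.map Fs) i) := fun i => by
    refine isIso_homologyMap_of_natIso (restrIso Λ f V) s i ?_
    exact isIso_homologyMap_map (EtModW.push Λ (f ∣_ V)) N hN hN0
      ((R.mapHomologicalComplex (ComplexShape.up ℤ)).map s)
      (fun m p hp => acyc_pull_coprod Λ f V T I hI m p hp)
      (fun m p hp => haveI := hK m; haveI := injective_pull Λ (f ⁻¹ᵁ V) (K.X m)
        AcycDef.acyc_injective _ (R.obj (K.X m)) p hp)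
      (i - N) (fun j _ => by
        haveI : QuasiIsoAt s j := hs.quasiIsoAt j
        exact (quasiIsoAt_iff_isIso_homologyMap _ j).1 inferInstance) i (by omega)
  haveI := hiso j
  haveI := hiso (j + 1)
  have h0 : IsZero ((RV.obj (CochainComplex.mappingCone Fs)).homology j) :=
    (isZero_homology_cone (RV.map Fs) j inferInstance inferInstance).of_iso
      ((HomologicalComplex.homologyFunctor _ (ComplexShape.up ℤ) j).mapIso
        (CochainComplex.mappingCone.mapHomologicalComplexIso Fs Rv))
  exact h0.of_iso (((CochainComplex.mappingCone Fs).sc j).mapHomologyIso Rv).symm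

include hn hΛ in
/-- **`Rf_*` preserves direct sums** -/
theorem preservesCoproducts_RpushModD {X S : Scheme.{u}} (f : X ⟶ S) [IsProper f] [EtBC.HasRpushMod Λ f]
    (T : Type (u + 1)) : PreservesColimitsOfShape (Discrete T) (EtBC.RpushModD Λ f) :=
  BrownUnb.preservesCoproducts_RF (EtModW.push Λ f) (fun T => EtModShriek.pushMod_preservesCoproducts Λ f T)
    (fun T I hI K _ hK s hs => quasiIso_push_coprod Λ n hn hΛ f T I hI K hK s hs)
    (EtBC.RpushModD Λ f) (uR Λ f) T

include hn hΛ in
/-- **`Rf_*` has a right adjoint** -/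
theorem isLeftAdjoint_RpushModD {X S : Scheme.{u}} (f : X ⟶ S) [IsProper f] [EtBC.HasRpushMod Λ f] :
    (EtBC.RpushModD Λ f).IsLeftAdjoint := by
  haveI := RPlusComp.pullMod_preservesFiniteLimits Λ f
  exact BrownUnb.isLeftAdjoint_RF (EtModW.push Λ f) (EtSix.pullPushModAdj Λ f)
    (fun T => EtModShriek.pushMod_preservesCoproducts Λ f T)
    (fun T I hI K _ hK s hs => quasiIso_push_coprod Λ n hn hΛ f T I hI K hK s hs)
    (EtBC.RpushModD Λ f) (uR Λ f)

end Groth.Agent.EtUnbBC
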