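import Groth.Agent.LAcyc.AffineSpace
import Mathlib

/-!
Affine space over an arbitrary finite index type is acyclic.
-/

set_option autoImplicit false
set_option backward.isDefEq.respectTransparency false
set_option backward.isDefEq.respectTransparency.types false
set_option linter.style.haveILetI false
set_option maxHeartbeats 1000000

universe u

open CategoryTheory CategoryTheory.Limits AlgebraicGeometry Opposite IsLocalRing

namespace Groth.Agent.EtUnbBC

open LAcyc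

/-- **affine space is acyclic** -/
theorem affineSpace_acyclic' (Y : Scheme.{u}) (ι : Type u) (m : ℕ) (e : ι ≃ Fin m) (n : ℕ) (F : EtCoh.Ab Y)
    (hF : EtAcyc.IsLTorsion (EtAcyc.primesInvertibleOn Y) F) :
    IsIso ((EtCoh.pullPushAdj (𝔸(ι; Y) ↘ Y)).unit.app F) ∧
      ∀ q : ℕ, 1 ≤ q → q ≤ n →
        IsZero ((EtCoh.Rpush (𝔸(ι; Y) ↘ Y) q).obj ((EtCoh.pull (𝔸(ι; Y) ↘ Y)).obj F)) := by
  haveI : Finite ι := Finite.of_equiv _ e.symm
  haveI := EtChart.smooth_over ι Y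
  have hg : EtAcyc.GeomFibresAcyclicN (EtAcyc.primesInvertibleOn Y) n (𝔸(ι; Y) ↘ Y) := by
    intro y Ω _ _ _ _
    refine isAcyclicSchemeN_of_algClosure _ Ω _ ?_
    let K := AlgebraicClosure Ω
    let γ : Spec (CommRingCat.of K) ⟶ Y :=
      Spec.map (CommRingCat.ofHom (algebraMap Ω K)) ≫ EtAcyc.geomPt Y y Ω
    refine isAcyclicSchemeN_of_iso
      ((AffineSpace.SpecIso ι (CommRingCat.of K) ≪≫
        Scheme.Spec.mapIso (MvPolynomial.renameEquiv K e).symm.toRingEquiv.toCommRingCatIso.op).symm ≪≫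
          (AffineSpace.isPullback_map γ).isoPullback) ?_
    refine isAcyclicSchemeN_affineSpace K (fun ℓ (hℓ : ℓ ∈ EtAcyc.primesInvertibleOn Y) => ⟨hℓ.1, ?_⟩) n m
    rw [← map_natCast ((algebraMap Ω K).comp (algebraMap (Y.residueField y) Ω))]
    exact (map_ne_zero _).2 (hℓ.2 y)
  refine EtAcycX.acyclic_core _ hg ?_ F hF
  intro x RY RX _ _ _ _ _ _ _ _ _ _ _ _ hc z Ω _ _ _ _
  obtain ⟨h1, h2, h3⟩ := onStrict_fibres_smooth (𝔸(ι; Y) ↘ Y) (n - 1) x RY RX hc z Ω
  exact ⟨h1, h2, fun l hl hlL => h3 l hl (primesInvertibleOn_subset (𝔸(ι; Y) ↘ Y) hlL)⟩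

end Groth.Agent.EtUnbBC
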