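import Groth.Agent.EtUnbBC.SmoothMain
import Groth.Agent.EtUnbBC.LineAcyc
import Mathlib

/-!
Inverse image by an acyclic morphism is fully faithful on unbounded derived categories of sheaves of modules.
-/

set_option autoImplicit false
set_option backward.isDefEq.respectTransparency false
set_option backward.isDefEq.respectTransparency.types false
set_option linter.style.haveILetI false
set_option linter.unusedSectionVars false
set_option linter.overlappingInstances false
set_option maxHeartbeats 2000000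

universe u

open CategoryTheory CategoryTheory.Limits AlgebraicGeometry Opposite

attribute [local instance] HasDerivedCategory.standard

noncomputable section

namespace Groth.Agent.EtUnbBC

open DerivedCategory (Qh)
open Groth.Agent.EtModAcyc (F₀ τ)

variable (Λ : Type (u + 1)) [CommRing Λ] {X S : Scheme.{u}} (p : X ⟶ S)

/-- the unit of sheaves of modules is invertible if that of abelian sheaves is -/
theorem isIso_unit_mod (M : EtModW.Mod Λ S) (h : IsIso ((EtCoh.pullPushAdj p).unit.app ((F₀ Λ S).obj M))) :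
    IsIso ((EtSix.pullPushModAdj Λ p).unit.app M) := by
  obtain ⟨_, _, _, _⟩ := EtModAcyc.forget_exact Λ S
  haveI := h
  haveI := ModCstAcyc.isIso_pullCmp Λ (EtCoh.bc p) (J := S.smallEtaleTopology) (K := X.smallEtaleTopology) M
  haveI : IsIso (τ Λ p M) := ‹_›
  haveI : IsIso ((F₀ Λ S).map ((EtSix.pullPushModAdj Λ p).unit.app M)) := by
    rw [show (F₀ Λ S).map ((EtSix.pullPushModAdj Λ p).unit.app M) =
        (EtCoh.pullPushAdj p).unit.app ((F₀ Λ S).obj M) ≫ (EtCoh.push p).map (τ Λ p M) from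
      (((EtCoh.pullPushAdj p).homEquiv ((F₀ Λ S).obj M) ((F₀ Λ X).obj ((EtModW.pull Λ p).obj M))).apply_symm_apply
        ((F₀ Λ S).map ((EtSix.pullPushModAdj Λ p).unit.app M))).symm.trans
          (Adjunction.homEquiv_unit (EtCoh.pullPushAdj p) _ _ _)]
    infer_instance
  exact isIso_of_reflects_iso _ (F₀ Λ S)

/-- inverse images are acyclic -/
theorem acyc_pull_mod (M : EtModW.Mod Λ S)
    (h : ∀ q : ℕ, 0 < q → IsZero ((EtCoh.Rpush p q).obj ((EtCoh.pull p).obj ((F₀ Λ S).obj M)))) (q : ℕ) (hq : 0 < q) :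
    IsZero (((EtModW.push Λ p).rightDerived q).obj ((EtModW.pull Λ p).obj M)) :=
  EtModShriek.isZero_rightDerived_pushMod Λ p _ (fun r hr =>
    haveI := ModCstAcyc.isIso_pullCmp Λ (EtCoh.bc p) (J := S.smallEtaleTopology) (K := X.smallEtaleTopology) M
    haveI : IsIso (τ Λ p M) := ‹_›
    (h r hr).of_iso ((EtCoh.Rpush p r).mapIso (asIso (τ Λ p M)).symm)) q hq

/-- **`p^*` is fully faithful on `D(S, Λ)`** -/
theorem full_faithful_pullModD [PreservesFiniteLimits (EtModW.pull Λ p)] [EtBC.HasRpushMod Λ p]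
    [∀ (ι : Type (u + 1)), PreservesColimitsOfShape (Discrete ι) (EtBC.RpushModD Λ p)]
    (hu : ∀ M : EtModW.Mod Λ S, IsIso ((EtCoh.pullPushAdj p).unit.app ((F₀ Λ S).obj M)))
    (hR : ∀ (M : EtModW.Mod Λ S) (q : ℕ), 0 < q →
      IsZero ((EtCoh.Rpush p q).obj ((EtCoh.pull p).obj ((F₀ Λ S).obj M)))) :
    (EtBC.pullModD Λ p).Full ∧ (EtBC.pullModD Λ p).Faithful := by
  haveI := EtBC.pullMod_preservesFiniteColimits Λ p
  obtain ⟨a, ha⟩ := exists_adj Λ p
  letI := a.rightAdjointCommShift ℤ
  haveI := a.commShift_of_leftAdjoint ℤ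
  haveI := a.isTriangulated_rightAdjoint
  haveI : ∀ (T : Type (u + 1)), PreservesColimitsOfShape (Discrete T) (EtModW.pull Λ p) := fun T =>
    haveI : (EtModW.pull Λ p).IsLeftAdjoint := (EtSix.pullPushModAdj Λ p).isLeftAdjoint
    inferInstance
  haveI : ∀ T : Type (u + 1), PreservesColimitsOfShape (Discrete T) (EtBC.pullModD Λ p) := fun T =>
    preservesCoproducts_mapDerived (EtModW.pull Λ p) T
  haveI : ∀ K, IsIso (a.unit.app K) := by
    refine fun K => isIso_app_of_bounded_below a.unit (fun T i => FSchCoh.preservesCoproducts_HD T i)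
      (fun C c hC => ?_) K
    obtain ⟨L₀, hL₀, i, hi⟩ := CochainComplex.Plus.exists_quasiIso_injective (⟨C, c, hC⟩ : CochainComplex.Plus _) c
    haveI : QuasiIso i.hom := hi
    let I := ((InjectiveObject.ι (EtModW.Mod Λ S)).mapCochainComplexPlus.obj L₀).obj
    haveI : I.IsStrictlyGE c :=
      (CochainComplex.isStrictlyGE_mapHomologicalComplex_obj_iff L₀.obj (InjectiveObject.ι _) c).2 hL₀
    haveI : CochainComplex.IsKInjective I := DerPlus.isKInjective_inj L₀
    let PI : CochainComplex (EtModW.Mod Λ X) ℤ := ((EtModW.pull Λ p).mapHomologicalComplex (ComplexShape.up ℤ)).obj I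
    haveI : PI.IsStrictlyGE c := inferInstanceAs (CochainComplex.IsStrictlyGE
      (((EtModW.pull Λ p).mapHomologicalComplex (ComplexShape.up ℤ)).obj I) c)
    obtain ⟨J, s, hs, hJi, hJ⟩ := CochainComplex.Plus.modelCategoryQuillen.exists_quasiIso_injective PI c
    haveI := hs
    haveI := hJ
    haveI := hJi
    haveI : J.IsKInjective := CochainComplex.isKInjective_of_injective J c
    haveI := EtModShriek.pushMod_preservesFiniteLimits Λ p
    let P := (EtModW.push Λ p).mapHomologicalComplex (ComplexShape.up ℤ)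
    haveI hPs : QuasiIso (P.map s) := GrothSS.quasiIso_map_of_acyclic (EtModW.push Λ p) s c
      (fun m q hq => acyc_pull_mod Λ p (I.X m) (hR (I.X m)) q hq) hJi
    let η := (KInj.mapHomologicalComplexAdj (EtSix.pullPushModAdj Λ p) (ComplexShape.up ℤ)).unit.app I
    haveI : ∀ k, IsIso (η.f k) := fun k => isIso_unit_mod Λ p (I.X k) (hu (I.X k))
    haveI : IsIso η := HomologicalComplex.Hom.isIso_of_components η
    have hφ : QuasiIso (η ≫ P.map s) := inferInstance
    -- the unit at `I` is the class of `η ≫ p_* s`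
    let adjH := KInj.mapHomotopyCategoryAdj (EtSix.pullPushModAdj Λ p) (ComplexShape.up ℤ)
    let σ : ((EtModW.pull Λ p).mapHomotopyCategory (ComplexShape.up ℤ)).obj ((qh Λ S).obj I) ⟶ (qh Λ X).obj J :=
      (qh Λ X).map s
    have key : a.unit.app (Qh.obj ((qh Λ S).obj I)) ≫
        (EtBC.RpushModD Λ p).map ((fac Λ p).hom.app ((qh Λ S).obj I) ≫ Qh.map σ) =
        Qh.map ((qh Λ S).map (η ≫ P.map s)) ≫ (uR Λ p).app ((qh Λ X).obj J) := by
      refine (a.homEquiv_unit _ _ _).symm.trans ((Equiv.apply_eq_iff_eq_symm_apply _).2 ?_)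
      rw [Adjunction.homEquiv_counit, Functor.map_comp, Category.assoc]
      refine Eq.trans ?_ (congrArg ((EtBC.pullModD Λ p).map (Qh.map ((qh Λ S).map (η ≫ P.map s))) ≫ ·) (ha _)).symm
      have n1 := (fac Λ p).hom.naturality ((qh Λ S).map (η ≫ P.map s))
      simp only [Functor.comp_map] at n1
      refine Eq.trans ?_ ((Category.assoc _ _ _).symm.trans ((congrArg
        (· ≫ Qh.map (adjH.counit.app ((qh Λ X).obj J))) n1).trans (Category.assoc _ _ _))).symm
      refine congrArg (fun z => _ ≫ z) (Eq.trans (congrArg Qh.map ?_) (Functor.map_comp _ _ _))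
      refine (((adjH.homEquiv _ _).symm_apply_apply σ).symm.trans (Adjunction.homEquiv_counit adjH _ _ _)).trans ?_
      refine congrArg (fun z => ((EtModW.pull Λ p).mapHomotopyCategory (ComplexShape.up ℤ)).map z ≫
        adjH.counit.app ((qh Λ X).obj J)) ?_
      refine (Adjunction.homEquiv_unit adjH _ _ σ).trans ?_
      exact ((qh Λ S).map_comp η (P.map s)).symm
    haveI : IsIso (Qh.map ((qh Λ S).map (η ≫ P.map s))) := by
      rw [DerivedCategory.isIso_Qh_map_iff, HomotopyCategory.quotient_map_mem_quasiIso_iff]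
      exact hφ
    haveI : IsIso ((uR Λ p).app ((qh Λ X).obj J)) := isIso_unit Λ p ((qh Λ X).obj J) ‹_›
    haveI : IsIso (Qh.map σ) := by
      rw [DerivedCategory.isIso_Qh_map_iff, HomotopyCategory.quotient_map_mem_quasiIso_iff]
      exact hs
    haveI : IsIso ((fac Λ p).hom.app ((qh Λ S).obj I) ≫ Qh.map σ) := inferInstance
    haveI := (EtBC.RpushModD Λ p).map_isIso ((fac Λ p).hom.app ((qh Λ S).obj I) ≫ Qh.map σ)
    haveI : IsIso (a.unit.app (Qh.obj ((qh Λ S).obj I))) := IsIso.of_isIso_fac_right key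
    exact (NatTrans.isIso_app_iff_of_iso a.unit (asIso (DerivedCategory.Q.map i.hom) ≪≫
      ((DerivedCategory.quotientCompQhIso (EtModW.Mod Λ S)).app I).symm)).2 ‹_›
  haveI : IsIso a.unit := NatIso.isIso_of_isIso_app _
  exact ⟨a.fullyFaithfulLOfIsIsoUnit.full, a.fullyFaithfulLOfIsIsoUnit.faithful⟩

end Groth.Agent.EtUnbBC
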