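import Groth.Agent.Hocolim.Basic
import Groth.Agent.AcycDef.StupidColim
import Groth.Agent.AcycDef.SumPreserve
import Groth.Agent.BrownDerived.Basic
import Groth.Agent.FSchCoh.RpushCoprod
import Mathlib

/-!
Natural transformations between exact functors on `D(A)` commuting with countable direct sums are detected on
bounded below complexes; exact functors with exact extensions to derived categories preserve direct sums.
-/

set_option autoImplicit false
set_option backward.isDefEq.respectTransparency false
set_option backward.isDefEq.respectTransparency.types false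
set_option linter.style.haveILetI false
set_option linter.unusedSectionVars false
set_option maxHeartbeats 1000000

universe w w' v u u'

open CategoryTheory CategoryTheory.Limits DerivedCategory

noncomputable section

namespace Groth.Agent.EtUnbBC

variable {A : Type u} [Category.{v} A] [Abelian A] [IsGrothendieckAbelian.{v} A] [HasDerivedCategory.{w} A]
  {B : Type u'} [Category.{v} B] [Abelian B] [IsGrothendieckAbelian.{v} B] [HasDerivedCategory.{w'} B]

/-- exact functors commuting with direct sums do so on derived categories -/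
theorem preservesCoproducts_mapDerived (R : A ⥤ B) [R.Additive] [PreservesFiniteLimits R]
    [PreservesFiniteColimits R] (T : Type v) [PreservesColimitsOfShape (Discrete T) R] :
    PreservesColimitsOfShape (Discrete T) R.mapDerivedCategory := by
  refine ⟨fun {K} => ?_⟩
  let RC := R.mapHomologicalComplex (ComplexShape.up ℤ)
  haveI : PreservesColimitsOfShape (Discrete T) RC :=
    ⟨fun {D} => ⟨fun hc => ⟨HomologicalComplex.isColimitOfEval _ _ fun n =>
      isColimitOfPreserves (HomologicalComplex.eval A (ComplexShape.up ℤ) n ⋙ R) hc⟩⟩⟩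
  let C := fun t => (Q (C := A)).objPreimage (K.obj ⟨t⟩)
  obtain ⟨hQ⟩ := DQCoh.nonempty_isColimit_Q_coprod (BrownDerived.hKinj (B := A)) C
  obtain ⟨hQ'⟩ := DQCoh.nonempty_isColimit_Q_coprod (BrownDerived.hKinj (B := B)) fun t => RC.obj (C t)
  let e : K ≅ Discrete.functor fun t => Q.obj (C t) :=
    Discrete.natIso fun t => ((Q (C := A)).objObjPreimageIso (K.obj t)).symm
  let F := R.mapDerivedCategoryFactors
  haveI : PreservesColimit (Discrete.functor fun t => Q.obj (C t)) R.mapDerivedCategory := by
    refine preservesColimit_of_preserves_colimit_cocone hQ ((IsColimit.precomposeHomEquiv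
      (Discrete.natIso fun t => (F.app (C t.as)).symm :
        Discrete.functor (fun t => Q.obj (RC.obj (C t))) ≅
          (Discrete.functor fun t => Q.obj (C t)) ⋙ R.mapDerivedCategory) _).1 ?_)
    refine IsColimit.ofIsoColimit hQ' (Cocone.ext (Q.mapIso (PreservesCoproduct.iso RC C).symm ≪≫
      (F.app (∐ C)).symm) fun t => ?_)
    have h1 : Sigma.ι (fun t => RC.obj (C t)) t.as ≫ (PreservesCoproduct.iso RC C).inv = RC.map (Sigma.ι C t.as) := by
      simp [PreservesCoproduct.iso]
    change Q.map (Sigma.ι (fun t => RC.obj (C t)) t.as) ≫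
      (Q.map (PreservesCoproduct.iso RC C).inv ≫ F.inv.app _) = F.inv.app _ ≫ _
    rw [← Functor.map_comp_assoc, h1]
    exact F.inv.naturality (Sigma.ι C t.as)
  exact preservesColimit_of_iso_diagram _ e.symm

variable {G₁ G₂ : DerivedCategory A ⥤ DerivedCategory B} [G₁.CommShift ℤ] [G₁.IsTriangulated]
  [G₂.CommShift ℤ] [G₂.IsTriangulated] (η : G₁ ⟶ G₂)
  [∀ T : Type v, PreservesColimitsOfShape (Discrete T) G₁] [∀ T : Type v, PreservesColimitsOfShape (Discrete T) G₂]
  (hH : ∀ (T : Type v) (i : ℤ), PreservesColimitsOfShape (Discrete T) (homologyFunctor B i))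

include hH in
/-- **detection on bounded below complexes** -/
theorem isIso_app_of_bounded_below
    (h : ∀ (C : CochainComplex A ℤ) (a : ℤ), C.IsStrictlyGE a → IsIso (η.app (Q.obj C))) (K : DerivedCategory A) :
    IsIso (η.app K) := by
  obtain ⟨N, ⟨e⟩⟩ : ∃ N, Nonempty (Q.obj N ≅ K) := ⟨_, ⟨(Q (C := A)).objObjPreimageIso K⟩⟩
  refine (NatTrans.isIso_app_iff_of_iso η e).1 ?_
  haveI := AcycDef.exactColimits_nat A
  haveI := AcycDef.exactColimits_nat B
  haveI : HasColimitsOfShape (Discrete ℕ) (DerivedCategory A) :=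
    haveI := BrownDerived.hasCoproducts (B := A) (ULift.{v} ℕ)
    hasColimitsOfShape_of_equivalence (Discrete.equivalence (Equiv.ulift.{v} : ULift.{v} ℕ ≃ ℕ))
  haveI : PreservesColimitsOfShape (Discrete ℕ) (Q : CochainComplex A ℤ ⥤ DerivedCategory A) :=
    haveI := BrownDerived.preservesColimitsOfShape_Q (B := A) (ULift.{v} ℕ)
    preservesColimitsOfShape_of_equiv (Discrete.equivalence (Equiv.ulift.{v} : ULift.{v} ℕ ≃ ℕ)) _
  let L := AcycDef.truncSeq N
  let eN : colimit L ≅ N := (colimit.isColimit L).coconePointUniqueUpToIso (AcycDef.isColimitTruncCocone N)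
  refine (NatTrans.isIso_app_iff_of_iso η (Q.mapIso eN)).1 ?_
  have hL := Hocolim.isHocolim_colimit L
  haveI : ∀ n, IsIso (η.app (Q.obj (L.obj n))) := fun n => h _ _ (AcycDef.trunc_isStrictlyGE N n)
  haveI : ∀ i, IsIso ((homologyFunctor B i).map (η.app (Q.obj (colimit L)))) := fun i => by
    haveI := hH (ULift.{v} ℕ) i
    haveI : PreservesColimitsOfShape (Discrete (ULift.{v} ℕ)) (G₁ ⋙ homologyFunctor B i) := inferInstance
    haveI : PreservesColimitsOfShape (Discrete (ULift.{v} ℕ)) (G₂ ⋙ homologyFunctor B i) := inferInstance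
    haveI : PreservesColimitsOfShape (Discrete ℕ) (G₁ ⋙ homologyFunctor B i) :=
      preservesColimitsOfShape_of_equiv (Discrete.equivalence (Equiv.ulift.{v} : ULift.{v} ℕ ≃ ℕ)) _
    haveI : PreservesColimitsOfShape (Discrete ℕ) (G₂ ⋙ homologyFunctor B i) :=
      preservesColimitsOfShape_of_equiv (Discrete.equivalence (Equiv.ulift.{v} : ULift.{v} ℕ ≃ ℕ)) _
    obtain ⟨e₁, h₁⟩ := Hocolim.iso_colimit (G₁ ⋙ homologyFunctor B i) _ _ _ _ hL
    obtain ⟨e₂, h₂⟩ := Hocolim.iso_colimit (G₂ ⋙ homologyFunctor B i) _ _ _ _ hL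
    let f := fun n => Q.map (L.map (homOfLE (Nat.le_succ n)))
    let S₁ := Functor.ofSequence fun n => (G₁ ⋙ homologyFunctor B i).map (f n)
    let S₂ := Functor.ofSequence fun n => (G₂ ⋙ homologyFunctor B i).map (f n)
    let σ : S₁ ≅ S₂ := NatIso.ofComponents
      (fun n => (homologyFunctor B i).mapIso (asIso (η.app (Q.obj (L.obj n)))))
      (fun {a b} g => by
        let τ : S₁ ⟶ S₂ := NatTrans.ofSequence (fun n => (homologyFunctor B i).map (η.app (Q.obj (L.obj n))))
          (fun n => by
            simp only [S₁, S₂, Functor.ofSequence_map_homOfLE_succ, Functor.comp_map]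
            rw [← Functor.map_comp, ← Functor.map_comp]
            exact congrArg _ (η.naturality (f n)))
        exact τ.naturality g)
    have key : e₁.hom ≫ (homologyFunctor B i).map (η.app (Q.obj (colimit L))) =
        (HasColimit.isoOfNatIso σ).hom ≫ e₂.hom := colimit.hom_ext fun n => by
      rw [HasColimit.isoOfNatIso_ι_hom_assoc, ← Category.assoc, h₁ n, h₂ n]
      simp only [σ, NatIso.ofComponents_hom_app, Functor.mapIso_hom, asIso_hom, Functor.comp_map]
      rw [← Functor.map_comp, ← Functor.map_comp]
      exact congrArg _ (η.naturality (Q.map (colimit.ι L n)))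
    exact IsIso.of_isIso_fac_left key
  exact (DerivedCategory.isIso_iff B (η.app (Q.obj (colimit L)))).2 inferInstance

end Groth.Agent.EtUnbBC
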