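import Groth.Agent.EtModAcyc.DerivedBC
import Groth.Agent.BrownDerived.Basic
import Groth.Agent.KInj.Adjunction
import Groth.Agent.KInj.Existence
import Groth.Agent.RPlusComp.Unbounded
import Groth.Prelude.Def_W4c6etmotetsheavesDMod
import Mathlib

/-!
The unbounded base change morphism of sheaves of modules, on K-injective complexes.
-/

set_option autoImplicit false
set_option backward.isDefEq.respectTransparency false
set_option backward.isDefEq.respectTransparency.types false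
set_option linter.style.haveILetI false
set_option linter.unusedSectionVars false
set_option linter.overlappingInstances false
set_option maxHeartbeats 1000000

universe u

open CategoryTheory CategoryTheory.Limits AlgebraicGeometry Opposite

attribute [local instance] HasDerivedCategory.standard

noncomputable section

namespace Groth.Agent.EtUnbBC

open DerivedCategory (Qh)

variable (Λ : Type (u + 1)) [CommRing Λ]

abbrev qh (X : Scheme.{u}) := HomotopyCategory.quotient (EtModW.Mod Λ X) (ComplexShape.up ℤ)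

/-- the unit of a total derived direct image -/
abbrev uR {X Y : Scheme.{u}} (f : X ⟶ Y) [EtBC.HasRpushMod Λ f] :=
  (EtBC.pushModKh Λ f).totalRightDerivedUnit DerivedCategory.Qh
    (HomotopyCategory.quasiIso (EtModW.Mod Λ X) (ComplexShape.up ℤ))

/-- exact inverse image on derived categories -/
abbrev fac {X Y : Scheme.{u}} (g : X ⟶ Y) [PreservesFiniteLimits (EtModW.pull Λ g)] :=
  (EtModW.pull Λ g).mapDerivedCategoryFactorsh

theorem hKinj (X : Scheme.{u}) (K : CochainComplex (EtModW.Mod Λ X) ℤ) :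
    ∃ (I : CochainComplex (EtModW.Mod Λ X) ℤ) (f : K ⟶ I), I.IsKInjective ∧ QuasiIso f := by
  obtain ⟨I, f, h1, h2, -⟩ := KInj.exists_kInjective K
  exact ⟨I, f, h1, h2⟩

theorem isIso_unit {X Y : Scheme.{u}} (f : X ⟶ Y) [EtBC.HasRpushMod Λ f]
    (K : HomotopyCategory (EtModW.Mod Λ X) (ComplexShape.up ℤ)) (hK : CochainComplex.IsKInjective K.as) :
    IsIso ((uR Λ f).app K) :=
  (KInj.isDeforming_Qh (hKinj Λ X) (EtBC.pushModKh Λ f)).isIso_app
    (HomotopyCategory.quasiIso (EtModW.Mod Λ X) (ComplexShape.up ℤ)) _ _ hK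

/-- an adjunction `g^* ⊣ Rg_*` compatible with the units -/
theorem exists_adj {X Y : Scheme.{u}} (g : X ⟶ Y) [PreservesFiniteLimits (EtModW.pull Λ g)]
    [EtBC.HasRpushMod Λ g] :
    ∃ adj : EtBC.pullModD Λ g ⊣ EtBC.RpushModD Λ g, ∀ M : HomotopyCategory (EtModW.Mod Λ X) (ComplexShape.up ℤ),
      (EtBC.pullModD Λ g).map ((uR Λ g).app M) ≫ adj.counit.app (Qh.obj M) =
        (fac Λ g).hom.app (((EtModW.push Λ g).mapHomotopyCategory (ComplexShape.up ℤ)).obj M) ≫
          Qh.map ((KInj.mapHomotopyCategoryAdj (EtSix.pullPushModAdj Λ g) (ComplexShape.up ℤ)).counit.app M) := by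
  let W₁ := HomotopyCategory.quasiIso (EtModW.Mod Λ Y) (ComplexShape.up ℤ)
  let W₂ := HomotopyCategory.quasiIso (EtModW.Mod Λ X) (ComplexShape.up ℤ)
  let G := (EtModW.pull Λ g).mapHomotopyCategory (ComplexShape.up ℤ)
  let L₁ : HomotopyCategory (EtModW.Mod Λ Y) (ComplexShape.up ℤ) ⥤ EtModD.D Λ Y := Qh
  let L₂ : HomotopyCategory (EtModW.Mod Λ X) (ComplexShape.up ℤ) ⥤ EtModD.D Λ X := Qh
  let G' := EtBC.pullModD Λ g
  let F' := EtBC.RpushModD Λ g
  let α : L₁ ⋙ G' ≅ G ⋙ L₂ := fac Λ g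
  let β : (EtModW.push Λ g).mapHomotopyCategory (ComplexShape.up ℤ) ⋙ L₁ ⟶ L₂ ⋙ F' := uR Λ g
  have hG : W₁.IsInvertedBy (G ⋙ L₂) := fun A B f hf => by
    have := Localization.inverts L₁ W₁ f hf
    rw [← NatIso.naturality_1 α f]
    dsimp
    infer_instance
  haveI : G'.IsLeftDerivedFunctor α.hom W₁ :=
    (Functor.isLeftDerivedFunctor_iff_of_inverts G' α.hom hG).2 inferInstance
  haveI : (G' ⋙ F').IsLeftDerivedFunctor
      ((Functor.associator _ _ _).inv ≫ Functor.whiskerRight α.hom F') W₁ := by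
    refine (Functor.isLeftDerivedFunctor_iff_of_inverts _ _ ?_).2 inferInstance
    intro A B f hf
    have : IsIso ((G ⋙ L₂).map f) := hG f hf
    exact inferInstanceAs (IsIso (F'.map ((G ⋙ L₂).map f)))
  haveI : (F' ⋙ G').IsRightDerivedFunctor
      (Functor.whiskerRight β G' ≫ (Functor.associator _ _ _).hom) W₂ :=
    (KInj.isDeforming_Qh (hKinj Λ X) (EtBC.pushModKh Λ g)).isRightDerivedFunctor_comp W₂ F' β G'
  exact ⟨(KInj.mapHomotopyCategoryAdj (EtSix.pullPushModAdj Λ g) (ComplexShape.up ℤ)).derived W₁ W₂ α.hom β,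
    fun M => Adjunction.derivedε_fac_app _ W₂ α.hom β M⟩

variable {X S X' S' : Scheme.{u}} (f : X ⟶ S) (g : S' ⟶ S) (f' : X' ⟶ S') (g' : X' ⟶ X)
  (w : g' ≫ f = f' ≫ g) [PreservesFiniteLimits (EtModW.pull Λ g)] [PreservesFiniteLimits (EtModW.pull Λ g')]
  [EtBC.HasRpushMod Λ f] [EtBC.HasRpushMod Λ f'] [EtBC.HasRpushMod Λ g]

theorem change (adj adj₀ : EtBC.pullModD Λ g ⊣ EtBC.RpushModD Λ g) (K : EtModD.D Λ X) :
    EtBC.bcMapModD Λ f g f' g' w adj K =
      (adj.leftAdjointUniq adj₀).hom.app _ ≫ EtBC.bcMapModD Λ f g f' g' w adj₀ K := by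
  unfold EtBC.bcMapModD
  rw [Equiv.symm_apply_eq, Adjunction.homEquiv_naturality_right,
    Adjunction.homEquiv_leftAdjointUniq_hom_app, ← Adjunction.homEquiv_unit, Equiv.apply_symm_apply]

theorem congr_obj (adj : EtBC.pullModD Λ g ⊣ EtBC.RpushModD Λ g) {K K' : EtModD.D Λ X} (e : K ≅ K') :
    IsIso (EtBC.bcMapModD Λ f g f' g' w adj K) ↔ IsIso (EtBC.bcMapModD Λ f g f' g' w adj K') :=
  (MorphismProperty.isomorphisms _).arrow_mk_iso_iff
    (Arrow.isoMk ((EtBC.pullModD Λ g).mapIso ((EtBC.RpushModD Λ f).mapIso e))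
      ((EtBC.RpushModD Λ f').mapIso ((EtBC.pullModD Λ g').mapIso e))
      ((adj.homEquiv_naturality_left_symm _ _).symm.trans ((congrArg (adj.homEquiv _ _).symm
        ((EtBC.bcAdjModD Λ f g f' g' w).naturality e.hom)).trans (adj.homEquiv_naturality_right_symm _ _))))

/-- the transposed unit on homotopy categories -/
abbrev ppH : (EtModW.push Λ f).mapHomotopyCategory (ComplexShape.up ℤ) ⟶
    (EtModW.pull Λ g').mapHomotopyCategory (ComplexShape.up ℤ) ⋙
      ((EtModW.push Λ f').mapHomotopyCategory (ComplexShape.up ℤ) ⋙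
        (EtModW.push Λ g).mapHomotopyCategory (ComplexShape.up ℤ)) :=
  NatTrans.mapHomotopyCategory (EtSix.pushToPushPullMod Λ f g f' g' w) (ComplexShape.up ℤ) ≫
    (Functor.mapHomotopyCategoryCompIso (Iso.refl (EtModW.pull Λ g' ⋙ (EtModW.push Λ f' ⋙ EtModW.push Λ g)))
      (ComplexShape.up ℤ)).inv ≫ Functor.whiskerLeft ((EtModW.pull Λ g').mapHomotopyCategory (ComplexShape.up ℤ))
      (Functor.mapHomotopyCategoryCompIso (Iso.refl (EtModW.push Λ f' ⋙ EtModW.push Λ g)) (ComplexShape.up ℤ)).inv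

theorem bcAdj_rep (K : HomotopyCategory (EtModW.Mod Λ X) (ComplexShape.up ℤ)) :
    (uR Λ f).app K ≫ (EtBC.bcAdjModD Λ f g f' g' w).app (Qh.obj K) ≫
        (EtBC.RpushModD Λ g).map ((EtBC.RpushModD Λ f').map ((fac Λ g').hom.app K)) =
      Qh.map ((ppH Λ f g f' g' w).app K) ≫
        (uR Λ g).app (((EtModW.push Λ f').mapHomotopyCategory (ComplexShape.up ℤ)).obj
          (((EtModW.pull Λ g').mapHomotopyCategory (ComplexShape.up ℤ)).obj K)) ≫
        (EtBC.RpushModD Λ g).map ((uR Λ f').app (((EtModW.pull Λ g').mapHomotopyCategory (ComplexShape.up ℤ)).obj K)) := by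
  have h1 := Functor.rightDerived_fac_app (EtBC.RpushModD Λ f) (uR Λ f)
    (HomotopyCategory.quasiIso (EtModW.Mod Λ X) (ComplexShape.up ℤ))
    (EtBC.pullModD Λ g' ⋙ EtBC.RpushModD Λ f' ⋙ EtBC.RpushModD Λ g) (EtBC.bcUnitMod Λ f g f' g' w) K
  refine (Category.assoc _ _ _).symm.trans ((congrArg (· ≫ _) h1).trans ?_)
  simp [EtBC.bcUnitMod, uR, fac, ← Functor.map_comp]
  erw [Functor.map_comp, Functor.map_comp]
  simp only [Category.assoc]
  try rfl

theorem counit_ppH {I : CochainComplex (EtModW.Mod Λ X) ℤ} {J : CochainComplex (EtModW.Mod Λ X') ℤ}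
    (s : ((EtModW.pull Λ g').mapHomologicalComplex (ComplexShape.up ℤ)).obj I ⟶ J) :
    ((EtModW.pull Λ g).mapHomotopyCategory (ComplexShape.up ℤ)).map
        ((ppH Λ f g f' g' w).app ((qh Λ X).obj I)) ≫
      (KInj.mapHomotopyCategoryAdj (EtSix.pullPushModAdj Λ g) (ComplexShape.up ℤ)).counit.app
        (((EtModW.push Λ f').mapHomotopyCategory (ComplexShape.up ℤ)).obj
          (((EtModW.pull Λ g').mapHomotopyCategory (ComplexShape.up ℤ)).obj ((qh Λ X).obj I))) ≫
        ((EtModW.push Λ f').mapHomotopyCategory (ComplexShape.up ℤ)).map ((qh Λ X').map s) =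
      (qh Λ S').map (DerPlusBC.bcG (EtSix.pullPushModAdj Λ g) (EtSix.pushToPushPullMod Λ f g f' g' w) s) := by
  let K := (qh Λ X).obj I
  let pp := (ppH Λ f g f' g' w).app K
  let φ : ((EtModW.push Λ f).mapHomologicalComplex (ComplexShape.up ℤ)).obj I ⟶
      ((EtModW.push Λ g).mapHomologicalComplex (ComplexShape.up ℤ)).obj (((EtModW.push Λ f').mapHomologicalComplex
        (ComplexShape.up ℤ)).obj (((EtModW.pull Λ g').mapHomologicalComplex (ComplexShape.up ℤ)).obj I)) :=
    (NatTrans.mapHomologicalComplex (EtSix.pushToPushPullMod Λ f g f' g' w) (ComplexShape.up ℤ)).app I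
  have hpp : pp = (qh Λ S).map φ := by
    show (qh Λ S).map φ ≫
        (qh Λ S).map ((Functor.mapHomologicalComplexCompIso
          (Iso.refl (EtModW.pull Λ g' ⋙ EtModW.push Λ f' ⋙ EtModW.push Λ g)) (ComplexShape.up ℤ)).inv.app I) ≫
        (qh Λ S).map ((Functor.mapHomologicalComplexCompIso
          (Iso.refl (EtModW.push Λ f' ⋙ EtModW.push Λ g)) (ComplexShape.up ℤ)).inv.app
            (((EtModW.pull Λ g').mapHomologicalComplex (ComplexShape.up ℤ)).obj I)) = _
    rw [← Functor.map_comp, ← Functor.map_comp]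
    refine congrArg (qh Λ S).map (HomologicalComplex.hom_ext _ _ fun n => ?_)
    simp [φ, Functor.mapHomologicalComplexCompIso]
    try rfl
  show ((EtModW.pull Λ g).mapHomotopyCategory (ComplexShape.up ℤ)).map pp ≫ _ ≫ _ = _
  rw [hpp]
  refine Eq.trans ?_ (congrArg (qh Λ S').map (show ((EtModW.pull Λ g).mapHomologicalComplex (ComplexShape.up ℤ)).map φ ≫
    (KInj.mapHomologicalComplexAdj (EtSix.pullPushModAdj Λ g) (ComplexShape.up ℤ)).counit.app _ ≫
    ((EtModW.push Λ f').mapHomologicalComplex (ComplexShape.up ℤ)).map s =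
      DerPlusBC.bcG (EtSix.pullPushModAdj Λ g) (EtSix.pushToPushPullMod Λ f g f' g' w) s from ?_))
  · rw [Functor.map_comp, Functor.map_comp]
    rfl
  refine HomologicalComplex.hom_ext _ _ fun n => ?_
  show (EtModW.pull Λ g).map ((EtSix.pushToPushPullMod Λ f g f' g' w).app (I.X n)) ≫
    (EtSix.pullPushModAdj Λ g).counit.app _ ≫ (EtModW.push Λ f').map (s.f n) =
      ((EtSix.pullPushModAdj Λ g).homEquiv _ _).symm ((EtSix.pushToPushPullMod Λ f g f' g' w).app (I.X n)) ≫
        (EtModW.push Λ f').map (s.f n)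
  rw [Adjunction.homEquiv_counit, Category.assoc]

/-- the base change morphism at a K-injective complex -/
theorem isIso_iff {I : CochainComplex (EtModW.Mod Λ X) ℤ} [I.IsKInjective] {J : CochainComplex (EtModW.Mod Λ X') ℤ}
    [J.IsKInjective] (s : ((EtModW.pull Λ g').mapHomologicalComplex (ComplexShape.up ℤ)).obj I ⟶ J) [QuasiIso s]
    (adj : EtBC.pullModD Λ g ⊣ EtBC.RpushModD Λ g) :
    IsIso (EtBC.bcMapModD Λ f g f' g' w adj (Qh.obj ((qh Λ X).obj I))) ↔
      QuasiIso (DerPlusBC.bcG (EtSix.pullPushModAdj Λ g) (EtSix.pushToPushPullMod Λ f g f' g' w) s) := by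
  obtain ⟨adj₀, h₀⟩ := exists_adj Λ g
  rw [change Λ f g f' g' w adj adj₀, isIso_comp_left_iff]
  let K := (qh Λ X).obj I
  let ψ := (qh Λ S').map (DerPlusBC.bcG (EtSix.pullPushModAdj Λ g) (EtSix.pushToPushPullMod Λ f g f' g' w) s)
  have h : (EtBC.pullModD Λ g).map ((uR Λ f).app K) ≫ EtBC.bcMapModD Λ f g f' g' w adj₀ (Qh.obj K) ≫
        (EtBC.RpushModD Λ f').map ((fac Λ g').hom.app K ≫ Qh.map ((qh Λ X').map s)) =
      (fac Λ g).hom.app ((qh Λ S).obj (((EtModW.push Λ f).mapHomologicalComplex (ComplexShape.up ℤ)).obj I)) ≫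
        Qh.map ψ ≫ (uR Λ f').app ((qh Λ X').obj J) :=
    EtBCBridge.transpose_rep adj₀ DerivedCategory.Qh DerivedCategory.Qh
    ((EtModW.pull Λ g).mapHomotopyCategory (ComplexShape.up ℤ)) ((EtModW.push Λ g).mapHomotopyCategory (ComplexShape.up ℤ))
    (fac Λ g) ((EtModW.push Λ f').mapHomotopyCategory (ComplexShape.up ℤ)) DerivedCategory.Qh (EtBC.RpushModD Λ f') (uR Λ f')
    ((qh Λ X').map s) ((ppH Λ f g f' g' w).app K) _ _ (h₀ _)
    ((uR Λ f).app K) ((EtBC.bcAdjModD Λ f g f' g' w).app (Qh.obj K))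
    ((fac Λ g').hom.app K) (bcAdj_rep Λ f g f' g' w K) ψ (counit_ppH Λ f g f' g' w s)
  haveI : IsIso ((uR Λ f).app K) := isIso_unit Λ f K ‹_›
  haveI : IsIso ((uR Λ f').app ((qh Λ X').obj J)) := isIso_unit Λ f' ((qh Λ X').obj J) ‹_›
  haveI : IsIso (Qh.map ((qh Λ X').map s)) := by
    rw [DerivedCategory.isIso_Qh_map_iff, HomotopyCategory.quotient_map_mem_quasiIso_iff]
    assumption
  haveI : IsIso ((fac Λ g').hom.app K ≫ Qh.map ((qh Λ X').map s)) := inferInstance
  haveI := (EtBC.RpushModD Λ f').map_isIso ((fac Λ g').hom.app K ≫ Qh.map ((qh Λ X').map s))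
  have key : IsIso (EtBC.bcMapModD Λ f g f' g' w adj₀ (Qh.obj K)) ↔ IsIso (Qh.map ψ) := by
    constructor
    · intro h1
      have h2 : IsIso ((fac Λ g).hom.app ((qh Λ S).obj (((EtModW.push Λ f).mapHomologicalComplex (ComplexShape.up ℤ)).obj I)) ≫
          Qh.map ψ ≫ (uR Λ f').app ((qh Λ X').obj J)) := by
        rw [← h]
        exact IsIso.comp_isIso' inferInstance (IsIso.comp_isIso' h1 inferInstance)
      have h3 := @IsIso.of_isIso_comp_left _ _ _ _ _ _ _ inferInstance h2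
      exact @IsIso.of_isIso_comp_right _ _ _ _ _ _ _ inferInstance h3
    · intro h1
      haveI := h1
      have h2 : IsIso ((EtBC.pullModD Λ g).map ((uR Λ f).app K) ≫ EtBC.bcMapModD Λ f g f' g' w adj₀ (Qh.obj K) ≫
          (EtBC.RpushModD Λ f').map ((fac Λ g').hom.app K ≫ Qh.map ((qh Λ X').map s))) := by
        rw [h]
        exact IsIso.comp_isIso' inferInstance (IsIso.comp_isIso' h1 inferInstance)
      have h3 := @IsIso.of_isIso_comp_left _ _ _ _ _ _ _ inferInstance h2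
      exact @IsIso.of_isIso_comp_right _ _ _ _ _ _ _ inferInstance h3
  refine key.trans ?_
  rw [DerivedCategory.isIso_Qh_map_iff, HomotopyCategory.quotient_map_mem_quasiIso_iff]
  rfl

end Groth.Agent.EtUnbBC
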