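import Groth.Agent.EtUnbBC.SmoothBC
import Groth.Agent.EtUnbBC.Hocolim
import Mathlib

/-!
Base change in the unbounded derived category of sheaves of modules for direct images commuting with sums.
-/

set_option autoImplicit false
set_option backward.isDefEq.respectTransparency false
set_option backward.isDefEq.respectTransparency.types false
set_option linter.style.haveILetI false
set_option linter.unusedSectionVars false
set_option linter.overlappingInstances false
set_option maxHeartbeats 2000000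

universe u

open CategoryTheory CategoryTheory.Limits AlgebraicGeometry Opposite

attribute [local instance] HasDerivedCategory.standard

noncomputable section

namespace Groth.Agent.EtUnbBC

open DerivedCategory (Qh)
open Groth.Agent.EtModAcyc (F₀)

variable (Λ : Type (u + 1)) [CommRing Λ]

/-- a sheaf killed by `n` -/
def KilledBy (n : ℕ) {X : Scheme.{u}} (F : EtCoh.Ab X) : Prop :=
  ∀ (W : X.Etale) (y : EtCoh.sect F W), n • y = 0

theorem killedBy_of_iso {n : ℕ} {X : Scheme.{u}} {F G : EtCoh.Ab X} (e : F ≅ G) (h : KilledBy n F) :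
    KilledBy n G := fun W y => by
  have e₁ : e.hom.hom.app (op W) (e.inv.hom.app (op W) y) = y := by
    have := ConcreteCategory.congr_hom (congrArg (fun m => m.hom.app (op W)) e.inv_hom_id) y
    exact this
  rw [← e₁, ← map_nsmul]
  exact (congrArg _ (h W _)).trans (map_zero _)

theorem killedBy_forget {n : ℕ} (hΛ : (n : Λ) = 0) {X : Scheme.{u}} (M : EtModW.Mod Λ X) :
    KilledBy n ((F₀ Λ X).obj M) := fun W y => by
  have key : ∀ z : (M.obj.obj (op W) : Type (u + 1)), n • z = 0 := fun z => by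
    rw [← Nat.cast_smul_eq_nsmul Λ, hΛ, zero_smul]
  exact key y

theorem isLTorsion_of_killedBy {n : ℕ} (hn : 0 < n) {S : Scheme.{u}} (hS : IsUnit (n : Γ(S, ⊤)))
    {X : Scheme.{u}} {F : EtCoh.Ab X} (h : KilledBy n F) :
    EtAcyc.IsLTorsion (EtAcyc.primesInvertibleOn S) F := fun U s x =>
  ⟨U, 𝟙 U, n, ⟨x, rfl⟩, ⟨hn, fun p hp hpn => ⟨hp, fun y hy => by
    have h1 : IsUnit (n : S.residueField y) := by
      have := hS.map (S.evaluation ⊤ y trivial).hom
      rwa [map_natCast] at this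
    obtain ⟨k, rfl⟩ := hpn
    rw [Nat.cast_mul, hy, zero_mul] at h1
    exact not_isUnit_zero h1⟩⟩, h U _⟩

theorem ulift_nat {C D : Type*} [Category* C] [Category* D] (G : C ⥤ D)
    [PreservesColimitsOfShape (Discrete (ULift.{u + 1} ℕ)) G] : PreservesColimitsOfShape (Discrete ℕ) G :=
  preservesColimitsOfShape_of_equiv (Discrete.equivalence (Equiv.ulift.{u + 1} : ULift.{u + 1} ℕ ≃ ℕ)) G

variable {X S X' S' : Scheme.{u}} (f : X ⟶ S) (g : S' ⟶ S) (f' : X' ⟶ S') (g' : X' ⟶ X)

/-- base change in `D(S', Λ)` from base change for abelian sheaves killed by `n` -/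
theorem isIso_bcMapModD_of_sums (hc : IsPullback g' f' f g) (n : ℕ) (hΛ : (n : Λ) = 0)
    (hQ : ∀ [PreservesFiniteLimits (EtCoh.pull g')] (F : EtCoh.Ab X), KilledBy n F →
      ∀ q, IsIso (EtBC.bcQ f g f' g' hc.w q F))
    [PreservesFiniteLimits (EtModW.pull Λ g)] [PreservesFiniteLimits (EtModW.pull Λ g')]
    [EtBC.HasRpushMod Λ f] [EtBC.HasRpushMod Λ f'] [EtBC.HasRpushMod Λ g]
    [∀ (ι : Type (u + 1)), PreservesColimitsOfShape (Discrete ι) (EtBC.RpushModD Λ f)]
    [∀ (ι : Type (u + 1)), PreservesColimitsOfShape (Discrete ι) (EtBC.RpushModD Λ f')]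
    (adj : EtBC.pullModD Λ g ⊣ EtBC.RpushModD Λ g) (K : EtModD.D Λ X) :
    IsIso (EtBC.bcMapModD Λ f g f' g' hc.w adj K) := by
  haveI := RPlusComp.pullMod_preservesFiniteLimits Λ f
  haveI := RPlusComp.pullMod_preservesFiniteLimits Λ f'
  haveI := EtBC.pullMod_preservesFiniteColimits Λ f
  haveI := EtBC.pullMod_preservesFiniteColimits Λ f'
  obtain ⟨a₁, -⟩ := exists_adj Λ f
  obtain ⟨a₂, -⟩ := exists_adj Λ f'
  letI := a₁.rightAdjointCommShift ℤ
  haveI := a₁.commShift_of_leftAdjoint ℤ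
  haveI := a₁.isTriangulated_rightAdjoint
  letI := a₂.rightAdjointCommShift ℤ
  haveI := a₂.commShift_of_leftAdjoint ℤ
  haveI := a₂.isTriangulated_rightAdjoint
  haveI : ∀ (T : Type (u + 1)), PreservesColimitsOfShape (Discrete T) (EtModW.pull Λ g) := fun T =>
    haveI : (EtModW.pull Λ g).IsLeftAdjoint := (EtSix.pullPushModAdj Λ g).isLeftAdjoint
    inferInstance
  haveI : ∀ (T : Type (u + 1)), PreservesColimitsOfShape (Discrete T) (EtModW.pull Λ g') := fun T =>
    haveI : (EtModW.pull Λ g').IsLeftAdjoint := (EtSix.pullPushModAdj Λ g').isLeftAdjoint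
    inferInstance
  haveI : ∀ T : Type (u + 1), PreservesColimitsOfShape (Discrete T) (EtBC.pullModD Λ g) := fun T =>
    preservesCoproducts_mapDerived (EtModW.pull Λ g) T
  haveI : ∀ T : Type (u + 1), PreservesColimitsOfShape (Discrete T) (EtBC.pullModD Λ g') := fun T =>
    preservesCoproducts_mapDerived (EtModW.pull Λ g') T
  let G₁ := EtBC.RpushModD Λ f ⋙ EtBC.pullModD Λ g
  let G₂ := EtBC.pullModD Λ g' ⋙ EtBC.RpushModD Λ f'
  let η : G₁ ⟶ G₂ :=
    { app := fun K => EtBC.bcMapModD Λ f g f' g' hc.w adj K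
      naturality := fun K K' e => (adj.homEquiv_naturality_left_symm _ _).symm.trans
        ((congrArg (adj.homEquiv _ _).symm ((EtBC.bcAdjModD Λ f g f' g' hc.w).naturality e)).trans
          (adj.homEquiv_naturality_right_symm _ _)) }
  refine isIso_app_of_bounded_below η (fun T i => FSchCoh.preservesCoproducts_HD T i) (fun C a hC => ?_) K
  haveI := hC
  show IsIso (EtBC.bcMapModD Λ f g f' g' hc.w adj (DerivedCategory.Q.obj C))
  obtain ⟨L₀, -, i, hi⟩ := CochainComplex.Plus.exists_quasiIso_injective (⟨C, a, hC⟩ : CochainComplex.Plus _) a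
  haveI : QuasiIso i.hom := hi
  let I := ((InjectiveObject.ι (EtModW.Mod Λ X)).mapCochainComplexPlus.obj L₀).obj
  obtain ⟨b, hb⟩ := ((InjectiveObject.ι (EtModW.Mod Λ X)).mapCochainComplexPlus.obj L₀).property
  haveI := hb
  let M : CochainComplex.Plus (EtModW.Mod Λ X') :=
    ⟨((EtModW.pull Λ g').mapHomologicalComplex (ComplexShape.up ℤ)).obj I, b, inferInstance⟩
  haveI : M.obj.IsStrictlyGE b := inferInstanceAs (CochainComplex.IsStrictlyGE
    (((EtModW.pull Λ g').mapHomologicalComplex (ComplexShape.up ℤ)).obj I) b)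
  obtain ⟨J₀, -, s, hs⟩ := CochainComplex.Plus.exists_quasiIso_injective M b
  haveI : QuasiIso s.hom := hs
  haveI : CochainComplex.IsKInjective I := DerPlus.isKInjective_inj L₀
  haveI : CochainComplex.IsKInjective ((InjectiveObject.ι (EtModW.Mod Λ X')).mapCochainComplexPlus.obj J₀).obj :=
    DerPlus.isKInjective_inj J₀
  let e : DerivedCategory.Q.obj C ≅ Qh.obj ((qh Λ X).obj I) :=
    asIso (DerivedCategory.Q.map i.hom) ≪≫ ((DerivedCategory.quotientCompQhIso (EtModW.Mod Λ X)).app I).symm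
  exact (congr_obj Λ f g f' g' hc.w adj e).2 ((isIso_iff Λ f g f' g' hc.w (I := I)
    (J := ((InjectiveObject.ι (EtModW.Mod Λ X')).mapCochainComplexPlus.obj J₀).obj) s.hom adj).2
      (Smooth.quasiIso_bcG Λ f g f' g' hc (KilledBy n) (fun e h => killedBy_of_iso e h)
        (fun M => killedBy_forget Λ hΛ M) hQ (L₀ := L₀) (J₀ := J₀) s.hom))

/-- **smooth base change** -/
theorem isIso_bcMapModD_smooth (hc : IsPullback g' f' f g) [QuasiCompact f] [QuasiSeparated f] [Smooth g]
    (n : ℕ) (hn : 0 < n) (hΛ : (n : Λ) = 0) (hS : IsUnit (n : Γ(S, ⊤)))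
    [PreservesFiniteLimits (EtModW.pull Λ g)] [PreservesFiniteLimits (EtModW.pull Λ g')]
    [EtBC.HasRpushMod Λ f] [EtBC.HasRpushMod Λ f'] [EtBC.HasRpushMod Λ g]
    [∀ (ι : Type (u + 1)), PreservesColimitsOfShape (Discrete ι) (EtBC.RpushModD Λ f)]
    [∀ (ι : Type (u + 1)), PreservesColimitsOfShape (Discrete ι) (EtBC.RpushModD Λ f')]
    (adj : EtBC.pullModD Λ g ⊣ EtBC.RpushModD Λ g) (K : EtModD.D Λ X) :
    IsIso (EtBC.bcMapModD Λ f g f' g' hc.w adj K) :=
  isIso_bcMapModD_of_sums Λ f g f' g' hc n hΛ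
    (fun F hF q => LAcyc.isIso_bcQ_uloc f g f' g' hc (LAcyc.isULocAcyclicN_smooth g q) F
      (isLTorsion_of_killedBy hn hS hF) le_rfl) adj K

end Groth.Agent.EtUnbBC
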